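import Cfsg.Agent.H137.OrthWeyl
import Cfsg.Agent.H989.OutOrth.Basic

/-!
# Siegel elements and semisimilitudes (helper989, TEAM GEN, S4180)

`H` is a subgroup of `O Q`, normalised by a semisimilitude `w`.
* `Sg Q H u y` : `T Q u (s y) ∈ H` for some `s ≠ 0`;
* `Sg.shift`, `Ts_shift` : transport by `w`;
* `comm_full` : commutators;
* `FamE`, `FamF` : one Siegel element gives the full family (Singer elements).
-/

set_option autoImplicit false

namespace Cfsg.Agent.H989.DG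

open QuadraticMap Cfsg.Agent.LieClassical.OrthCore Cfsg.Agent.LieClassical.OrthTrans
  Cfsg.Agent.LieClassical.OrthSimple Cfsg.Agent.ClassicalGeometry.OrthAutBasic
  Cfsg.Agent.ClassicalGeometry.OrthSemi Cfsg.Agent.ClassicalGeometry.OrthAut1
  Cfsg.Agent.H887.SiegelMethod Cfsg.Agent.H137 Cfsg.Agent.H989.OutOrth.Basic

variable {F V : Type*} [Field F] [AddCommGroup V] [Module F V] {Q : QuadraticForm F V}
  {H : Subgroup (V ≃ₗ[F] V)}

/-- some nonzero multiple of the Siegel element is in `H` -/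
def Sg (Q : QuadraticForm F V) (H : Subgroup (V ≃ₗ[F] V)) (u y : V) : Prop :=
  Q u = 0 ∧ polar Q u y = 0 ∧ ∃ s : F, s ≠ 0 ∧ T Q u (s • y) ∈ H

/-- `w` normalises `H` -/
def Nm (H : Subgroup (V ≃ₗ[F] V)) (w : Gam Q) : Prop := ∀ g ∈ H, conjLin w g ∈ H

theorem conjLin_T (w : Gam Q) {σ : F ≃+* F} {c : F} (h : IsSS Q σ c w.1) {u y : V} (hu : Q u = 0)
    (huy : polar Q u y = 0) : conjLin w (T Q u y) = T Q (w.1 u) (c⁻¹ • w.1 y) := by
  obtain ⟨h1, h2, h3⟩ := conjLin_siegel w h hu huy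
  rw [T_eq hu huy, h3, T_eq h1 h2]

theorem Sg.map {w : Gam Q} (hw : Nm H w) {u y : V} (h : Sg Q H u y) : Sg Q H (w.1 u) (w.1 y) := by
  obtain ⟨hu, huy, s, hs, hT⟩ := h
  obtain ⟨σ, c, hc⟩ := w.2
  refine ⟨by rw [hc.form, hu, map_zero, mul_zero], by rw [hc.polar, huy, map_zero, mul_zero], c⁻¹ * σ s,
    mul_ne_zero (inv_ne_zero hc.ne) (by simpa using hs), ?_⟩
  have h1 := hw _ hT
  rwa [conjLin_T w hc hu (by rw [polar_smul_right, huy, smul_zero]), hc.smul, smul_smul] at h1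

theorem Sg.of_smul {u y : V} {a b : F} (ha : a ≠ 0) (hb : b ≠ 0) (h : Sg Q H (a • u) (b • y)) : Sg Q H u y := by
  obtain ⟨hu, huy, s, hs, hT⟩ := h
  have hu' : Q u = 0 := by
    rw [QuadraticMap.map_smul, smul_eq_mul] at hu
    exact (mul_eq_zero.1 hu).resolve_left (mul_ne_zero ha ha)
  have huy' : polar Q u y = 0 := by
    rw [polar_smul_left, polar_smul_right, smul_eq_mul, smul_eq_mul] at huy
    exact (mul_eq_zero.1 ((mul_eq_zero.1 huy).resolve_left ha)).resolve_left hb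
  refine ⟨hu', huy', a * (s * b), mul_ne_zero ha (mul_ne_zero hs hb), ?_⟩
  rwa [smul_smul, T_smul_left a hu' (by rw [polar_smul_right, huy', smul_zero]), smul_smul] at hT

theorem Sg.shift {w : Gam Q} (hw : Nm H w) {u y u' y' : V} (h : Sg Q H u y) {a b : F} (ha : a ≠ 0) (hb : b ≠ 0)
    (hu : w.1 u = a • u') (hy : w.1 y = b • y') : Sg Q H u' y' := by
  have h1 := h.map hw
  rw [hu, hy] at h1
  exact h1.of_smul ha hb

theorem Sg.mem {u y : V} (h : Sg Q H u y) : ∃ s : F, s ≠ 0 ∧ T Q u (s • y) ∈ H := h.2.2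

theorem Sg.of_mem {u y : V} (hu : Q u = 0) (huy : polar Q u y = 0) (h : T Q u y ∈ H) : Sg Q H u y :=
  ⟨hu, huy, 1, one_ne_zero, by rwa [one_smul]⟩

theorem Sg.of_Ts {u y : V} (hu : Q u = 0) (h : y ∈ Ts Q H u) : Sg Q H u y :=
  Sg.of_mem hu h.1 (Ts_mem h)

theorem Sg.swap {u y : V} (h : Sg Q H u y) (hy : Q y = 0) : Sg Q H y u := by
  obtain ⟨hu, huy, s, hs, hT⟩ := h
  have hyu : polar Q y u = 0 := by rw [polar_comm]; exact huy
  refine ⟨hy, hyu, -s, neg_ne_zero.2 hs, ?_⟩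
  have hsy : Q (s • y) = 0 := by rw [QuadraticMap.map_smul, hy, smul_zero]
  rw [T_swap hu hsy (by rw [polar_smul_right, huy, smul_zero]),
    T_smul_left s hy (by rw [polar_neg_right, hyu, neg_zero]), smul_neg] at hT
  rwa [neg_smul]

theorem Ts_map {w : Gam Q} (hw : Nm H w) {u y : V} (hu : Q u = 0) (h : y ∈ Ts Q H u) :
    w.1 y ∈ Ts Q H (w.1 u) := by
  obtain ⟨σ, c, hc⟩ := w.2
  refine ⟨by rw [hc.polar, h.1, map_zero, mul_zero], fun t => ?_⟩
  have h1 := hw _ (h.2 (σ.symm (c * t)))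
  rw [conjLin_T w hc hu (by rw [polar_smul_right, h.1, smul_zero]), hc.smul, RingEquiv.apply_symm_apply,
    smul_smul, ← mul_assoc, inv_mul_cancel₀ hc.ne, one_mul] at h1
  exact h1

theorem Ts_shift {w : Gam Q} (hw : Nm H w) {u y u' y' : V} (hu0 : Q u = 0) (hu0' : Q u' = 0)
    (h : y ∈ Ts Q H u) {a b : F} (ha : a ≠ 0) (hb : b ≠ 0)
    (hu : w.1 u = a • u') (hy : w.1 y = b • y') : y' ∈ Ts Q H u' := by
  have h1 := Ts_map hw hu0 h
  rw [hu, hy, Ts_smul ha hu0'] at h1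
  have h2 := (Ts Q H u').smul_mem b⁻¹ h1
  rwa [smul_smul, inv_mul_cancel₀ hb, one_smul] at h2

/-- commutator of a full root group and a Siegel element -/
theorem comm_full {x y a b : V} (hx : Q x = 0) (hxy : polar Q x y = 0) (hya : polar Q y a = 0)
    (hxb : polar Q x b = 0) (ha : a ∈ Ts Q H x) (hb : Sg Q H y b) (hab : polar Q a b ≠ 0) :
    x ∈ Ts Q H y := by
  obtain ⟨hy, hyb, s, hs, hT⟩ := hb
  refine ⟨by rw [polar_comm]; exact hxy, fun c => ?_⟩
  have h1 := comm_T (Q := Q) (H := H) (x := x) (y := y) (a := (c / (s * polar Q a b)) • a) (b := s • b) hx hy hxy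
    (by rw [polar_smul_right, ha.1, smul_zero]) (by rw [polar_smul_right, hya, smul_zero])
    (by rw [polar_smul_right, hxb, smul_zero]) (by rw [polar_smul_right, hyb, smul_zero]) (ha.2 _) hT
  have e : polar Q ((c / (s * polar Q a b)) • a) (s • b) = c := by
    rw [polar_smul_left, polar_smul_right, smul_eq_mul, smul_eq_mul]
    field_simp
  rwa [e] at h1

/-- commutator of two Siegel elements -/
theorem comm_sg {x y a b : V} (hxy : polar Q x y = 0) (hya : polar Q y a = 0)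
    (hxb : polar Q x b = 0) (ha : Sg Q H x a) (hb : Sg Q H y b) (hab : polar Q a b ≠ 0) :
    Sg Q H y x := by
  obtain ⟨hy, hyb, s, hs, hT⟩ := hb
  obtain ⟨hx, hxa, t, ht, hT'⟩ := ha
  have h1 := comm_T (Q := Q) (H := H) (x := x) (y := y) (a := t • a) (b := s • b) hx hy hxy
    (by rw [polar_smul_right, hxa, smul_zero]) (by rw [polar_smul_right, hya, smul_zero])
    (by rw [polar_smul_right, hxb, smul_zero]) (by rw [polar_smul_right, hyb, smul_zero]) hT' hT
  refine ⟨hy, by rw [polar_comm]; exact hxy, _, ?_, h1⟩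
  rw [polar_smul_left, polar_smul_right, smul_eq_mul, smul_eq_mul]
  exact mul_ne_zero ht (mul_ne_zero hs hab)

/-! ### families -/

section Fam

variable {K : Type*} [Field K] [Algebra F K]

/-- one Siegel element gives the family -/
def FamE (Q : QuadraticForm F V) (H : Subgroup (V ≃ₗ[F] V)) (P : SPair Q K) (u : V) : Prop :=
  ∀ z, z ≠ 0 → Sg Q H u (P.e z) → ∀ z', P.e z' ∈ Ts Q H u

/-- one Siegel element gives the family -/
def FamF (Q : QuadraticForm F V) (H : Subgroup (V ≃ₗ[F] V)) (P : SPair Q K) (u : V) : Prop :=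
  ∀ z, z ≠ 0 → Sg Q H u (P.f z) → ∀ z', P.f z' ∈ Ts Q H u

/-- `κ` generates `K` over the prime field -/
def Irr (κ : K) : Prop := ∀ Y : AddSubgroup K, (∀ y ∈ Y, κ * y ∈ Y) → ∀ y ∈ Y, y ≠ 0 → ∀ z, z ∈ Y

theorem fam_of_irr (g : K →ₗ[F] V) {u : V} (hu : Q u = 0) (hg : ∀ z, polar Q u (g z) = 0) {κ : K}
    (hκ : Irr κ) (hc : ∀ z, T Q u (g z) ∈ H → T Q u (g (κ * z)) ∈ H) {z : K} (hz : z ≠ 0)
    (h : Sg Q H u (g z)) (z' : K) : g z' ∈ Ts Q H u := by
  let Y : AddSubgroup K :=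
    { carrier := {z | T Q u (g z) ∈ H}
      zero_mem' := by
        show T Q u (g 0) ∈ H
        rw [map_zero, T_zero_right]
        exact H.one_mem
      add_mem' := by
        intro a b ha hb
        show T Q u (g (a + b)) ∈ H
        rw [map_add, ← T_mul hu (hg a) (hg b)]
        exact H.mul_mem ha hb
      neg_mem' := by
        intro a ha
        show T Q u (g (-a)) ∈ H
        rw [map_neg, ← T_inv hu (hg a)]
        exact H.inv_mem ha }
  obtain ⟨-, -, s, hs, hT⟩ := h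
  have h1 : s • z ∈ Y := by
    show T Q u (g (s • z)) ∈ H
    rwa [map_smul]
  have h2 : s • z ≠ 0 := smul_ne_zero hs hz
  have h3 := hκ Y hc _ h1 h2
  refine ⟨hg z', fun c => ?_⟩
  have h4 : T Q u (g (c • z')) ∈ H := h3 (c • z')
  rwa [map_smul] at h4

/-- the family from a similitude acting on `e K` as multiplication -/
theorem famE_of {P : SPair Q K} {X : Gam Q} (hX : Nm H X) {c : F} (hc : IsSS Q (RingEquiv.refl F) c X.1) {a : K}
    (ha : ∀ z, X.1 (P.e z) = P.e (a * z)) {u : V} (hu : Q u = 0) (hu' : P.Perp u) {b : F}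
    (hb : X.1 u = b • u) (hκ : Irr (algebraMap F K (b * c⁻¹) * a)) : FamE Q H P u := by
  intro z hz h
  refine fam_of_irr P.e hu (fun z => P.polar_e' hu' z) hκ (fun z hT => ?_) hz h
  have h1 := hX _ hT
  rw [conjLin_T X hc hu (P.polar_e' hu' z), hb, ha, T_smul_left b hu (by
    rw [polar_smul_right, P.polar_e' hu', smul_zero]), smul_smul, ← map_smul] at h1
  rwa [mul_assoc, ← Algebra.smul_def]

/-- the family from a similitude acting on `f K` as multiplication -/
theorem famF_of {P : SPair Q K} {X : Gam Q} (hX : Nm H X) {c : F} (hc : IsSS Q (RingEquiv.refl F) c X.1) {a : K}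
    (ha : ∀ z, X.1 (P.f z) = P.f (a * z)) {u : V} (hu : Q u = 0) (hu' : P.Perp u) {b : F}
    (hb : X.1 u = b • u) (hκ : Irr (algebraMap F K (b * c⁻¹) * a)) : FamF Q H P u := by
  intro z hz h
  refine fam_of_irr P.f hu (fun z => P.polar_f' hu' z) hκ (fun z hT => ?_) hz h
  have h1 := hX _ hT
  rw [conjLin_T X hc hu (P.polar_f' hu' z), hb, ha, T_smul_left b hu (by
    rw [polar_smul_right, P.polar_f' hu', smul_zero]), smul_smul, ← map_smul] at h1
  rwa [mul_assoc, ← Algebra.smul_def]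

end Fam

end Cfsg.Agent.H989.DG
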