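import Cfsg.Agent.H989.DG.Pick
import Cfsg.Agent.H989.OutOrth.Plus
import Cfsg.Agent.H984.DG.Gasch
import Cfsg.Agent.H137.Fam

/-!
# `Cos2` for the orthogonal groups of plus type, rank at least 5 (helper989, TEAM GEN, S4180)
-/

set_option autoImplicit false
set_option linter.unusedSectionVars false

namespace Cfsg.Agent.H989.DG

open QuadraticMap Cfsg.Agent.LieClassical.OrthCore Cfsg.Agent.LieClassical.OrthTrans
  Cfsg.Agent.LieClassical.OrthSimple Cfsg.Agent.ClassicalGeometry.OrthAutBasic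
  Cfsg.Agent.ClassicalGeometry.OrthSemi Cfsg.Agent.ClassicalGeometry.OrthAut1
  Cfsg.Agent.ClassicalGeometry.OrthSemiForms Cfsg.Agent.LieClassical.OrthForms
  Cfsg.Agent.H887.SiegelMethod Cfsg.Agent.H137 Cfsg.Agent.H989.OutOrth.Basic
  Cfsg.Agent.H989.OutOrth.Forms Cfsg.Agent.H989.OutOrth.Plus Subgroup Cfsg.Agent.H891.DG

section model

variable {F : Type*} [Field F] {m : ℕ}

theorem polar_inl (i : Fin m) (v : Fin m ⊕ Fin m → F) :
    polar (plusForm m F) (Pi.single (Sum.inl i) 1) v = v (Sum.inr i) := by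
  rw [polar_plusForm, Finset.sum_eq_single i]
  · simp
  · intro j _ hj
    simp [hj]
  · simp

theorem polar_inr (i : Fin m) (v : Fin m ⊕ Fin m → F) :
    polar (plusForm m F) (Pi.single (Sum.inr i) 1) v = v (Sum.inl i) := by
  rw [polar_plusForm, Finset.sum_eq_single i]
  · simp
  · intro j _ hj
    simp [hj]
  · simp

theorem q_inl (i : Fin m) : plusForm m F (Pi.single (Sum.inl i) 1) = 0 := by
  rw [coe_plusForm, quadFormPlus_apply]
  simp

theorem q_inr (i : Fin m) : plusForm m F (Pi.single (Sum.inr i) 1) = 0 := by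
  rw [coe_plusForm, quadFormPlus_apply]
  simp

theorem hyp_lr (i : Fin m) : Hyp (plusForm m F) (Pi.single (Sum.inl i) 1) (Pi.single (Sum.inr i) 1) :=
  ⟨q_inl i, q_inr i, by rw [polar_inl]; simp⟩

theorem hyp_rl (i : Fin m) : Hyp (plusForm m F) (Pi.single (Sum.inr i) 1) (Pi.single (Sum.inl i) 1) :=
  ⟨q_inr i, q_inl i, by rw [polar_inr]; simp⟩

theorem p_ll (i j : Fin m) :
    polar (plusForm m F) (Pi.single (Sum.inl i) 1) (Pi.single (Sum.inl j) 1) = 0 := by
  rw [polar_inl]; simp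

theorem p_rr (i j : Fin m) :
    polar (plusForm m F) (Pi.single (Sum.inr i) 1) (Pi.single (Sum.inr j) 1) = 0 := by
  rw [polar_inr]; simp

theorem p_lr {i j : Fin m} (h : i ≠ j) :
    polar (plusForm m F) (Pi.single (Sum.inl i) 1) (Pi.single (Sum.inr j) 1) = 0 := by
  rw [polar_inl]; simp [h]

theorem p_rl {i j : Fin m} (h : i ≠ j) :
    polar (plusForm m F) (Pi.single (Sum.inr i) 1) (Pi.single (Sum.inl j) 1) = 0 := by
  rw [polar_inr]; simp [h]

theorem dil_l (c : Fˣ) (i : Fin m) :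
    (dil m c).1 (Pi.single (Sum.inl i) 1) = (c : F) • (Pi.single (Sum.inl i) 1 : Fin m ⊕ Fin m → F) := by
  funext j
  rcases j with j | j
  · rfl
  · show (Pi.single (Sum.inl i) 1 : Fin m ⊕ Fin m → F) (Sum.inr j) = (c : F) • (Pi.single (Sum.inl i) 1 : Fin m ⊕ Fin m → F) (Sum.inr j)
    simp

theorem dil_r (c : Fˣ) (i : Fin m) :
    (dil m c).1 (Pi.single (Sum.inr i) 1) = (Pi.single (Sum.inr i) 1 : Fin m ⊕ Fin m → F) := by
  funext j
  rcases j with j | j
  · show (c : F) * (Pi.single (Sum.inr i) 1 : Fin m ⊕ Fin m → F) (Sum.inl j) = (Pi.single (Sum.inr i) 1 : Fin m ⊕ Fin m → F) (Sum.inl j)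
    simp
  · rfl

theorem Fi_single (σ : RingAut F) (i : Fin m ⊕ Fin m) :
    (Fi m σ).1 (Pi.single i 1) = (Pi.single i 1 : Fin m ⊕ Fin m → F) := by
  funext j
  show σ ((Pi.single i 1 : Fin m ⊕ Fin m → F) j) = (Pi.single i 1 : Fin m ⊕ Fin m → F) j
  by_cases h : j = i
  · subst h; simp
  · simp [h]

end model

/-- `Cos2` for the orthogonal groups of plus type -/
theorem cos2_plusForm {F : Type} [Field F] [Fintype F] (k : ℕ) (hk : 2 ≤ k) : Cos2 (P (plusForm (k + 3) F)) := by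
  have hG : Good (plusForm (k + 3) F) := good_plus (by omega)
  have hsurj : Function.Surjective (Psi (plusForm (k + 3) F)) :=
    Cfsg.Agent.AutOrth.Final.surjective_plus (F := F) (by omega)
  refine cos2_of_gam hG hsurj fun x y hx => ?_
  obtain ⟨K, _, _, _, hK⟩ := exists_ext F k (by omega)
  have : FiniteDimensional F K := Module.finite_of_finrank_pos (by omega)
  have : Algebra.IsSeparable F K := inferInstance
  obtain ⟨b⟩ : Nonempty (Module.Basis (Fin k) F K) := ⟨(Module.finBasis F K).reindex (finCongr hK)⟩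
  have hfam : HypFam (plusForm (k + 3) F) (fun i : Fin k => Pi.single (Sum.inl i.succ.succ.succ) 1)
      (fun i : Fin k => Pi.single (Sum.inr i.succ.succ.succ) 1) := by
    refine ⟨fun i => q_inl _, fun i => q_inr _, fun i j => p_ll _ _, fun i j => p_rr _ _, fun i j => ?_⟩
    rw [polar_inl]
    simp [Pi.single_apply]
  obtain ⟨P, hP⟩ : ∃ P, P = mkPair b hfam := ⟨_, rfl⟩
  have hpe : ∀ v, P.Perp v ↔
      (∀ i : Fin k, polar (plusForm (k + 3) F) (Pi.single (Sum.inl i.succ.succ.succ) 1) v = 0) ∧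
      ∀ i : Fin k, polar (plusForm (k + 3) F) (Pi.single (Sum.inr i.succ.succ.succ) 1) v = 0 := by
    rw [hP]
    exact fun v => perp_mkPair b hfam v
  have hPe : ∀ i, P.e (b i) = Pi.single (Sum.inl i.succ.succ.succ) 1 := by
    intro i
    rw [hP]
    exact b.constr_basis F _ i
  have hPf : ∀ i, P.f (b.traceDual i) = Pi.single (Sum.inr i.succ.succ.succ) 1 := by
    intro i
    rw [hP]
    exact b.traceDual.constr_basis F _ i
  -- the indices
  obtain ⟨i0, hi0⟩ : ∃ i : Fin (k + 3), i = 0 := ⟨_, rfl⟩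
  obtain ⟨i1, hi1⟩ : ∃ i : Fin (k + 3), i = Fin.succ 0 := ⟨_, rfl⟩
  obtain ⟨i2, hi2⟩ : ∃ i : Fin (k + 3), i = Fin.succ (Fin.succ 0) := ⟨_, rfl⟩
  have n01 : i0 ≠ i1 := by
    rw [hi0, hi1]; exact (Fin.succ_ne_zero _).symm
  have n02 : i0 ≠ i2 := by
    rw [hi0, hi2]; exact (Fin.succ_ne_zero _).symm
  have n12 : i1 ≠ i2 := by
    rw [hi1, hi2]
    intro h
    exact (Fin.succ_ne_zero _).symm (Fin.succ_injective _ h)
  have m0 : ∀ j : Fin k, i0 ≠ j.succ.succ.succ := fun j => by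
    rw [hi0]; exact (Fin.succ_ne_zero _).symm
  have m1 : ∀ j : Fin k, i1 ≠ j.succ.succ.succ := fun j => by
    rw [hi1]
    intro h
    exact (Fin.succ_ne_zero _).symm (Fin.succ_injective _ h)
  have m2 : ∀ j : Fin k, i2 ≠ j.succ.succ.succ := fun j => by
    rw [hi2]
    intro h
    exact (Fin.succ_ne_zero _).symm (Fin.succ_injective _ (Fin.succ_injective _ h))
  have hcase : ∀ (C : Fin (k + 3) → Prop), C i0 → C i1 → C i2 → (∀ j : Fin k, C j.succ.succ.succ) → ∀ j, C j := by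
    intro C c0 c1 c2 c3 j
    rw [hi0] at c0
    rw [hi1] at c1
    rw [hi2] at c2
    exact Fin.cases c0 (fun j => Fin.cases c1 (fun j => Fin.cases c2 c3 j) j) j
  have pl : ∀ i : Fin (k + 3), (∀ j : Fin k, i ≠ j.succ.succ.succ) → P.Perp (Pi.single (Sum.inl i) 1) := by
    intro i hi
    rw [hpe]
    exact ⟨fun j => p_ll _ _, fun j => p_rl (hi j).symm⟩
  have pr : ∀ i : Fin (k + 3), (∀ j : Fin k, i ≠ j.succ.succ.succ) → P.Perp (Pi.single (Sum.inr i) 1) := by
    intro i hi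
    rw [hpe]
    exact ⟨fun j => p_lr (hi j).symm, fun j => p_rr _ _⟩
  have Fr : Frame (plusForm (k + 3) F) P (Pi.single (Sum.inl i0) 1) (Pi.single (Sum.inr i0) 1)
      (Pi.single (Sum.inr i1) 1) (Pi.single (Sum.inl i1) 1) (Pi.single (Sum.inl i2) 1)
      (Pi.single (Sum.inr i2) 1) := by
    refine ⟨⟨hyp_lr _, hyp_rl _, p_lr n01, p_ll _ _, p_rr _ _, p_rl n01⟩,
      ⟨hyp_lr _, hyp_lr _, p_ll _ _, p_lr n02, p_rl n02, p_rr _ _⟩,
      ⟨hyp_rl _, hyp_lr _, p_rl n12, p_rr _ _, p_ll _ _, p_lr n12⟩,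
      pl _ m0, pr _ m0, pr _ m1, pl _ m1, pl _ m2, pr _ m2, ?_⟩
    intro x hx
    rw [hpe] at hx
    obtain ⟨h1, h2⟩ := hx
    simp only [polar_inl, polar_inr] at h1 h2 ⊢
    funext j
    rcases j with j | j
    · revert j
      refine hcase _ ?_ ?_ ?_ ?_
      · simp [n01, n02]
      · simp [n01.symm, n12]
      · simp [n02.symm, n12.symm]
      · intro j
        simp [h2 j, (m0 j).symm, (m1 j).symm, (m2 j).symm]
    · revert j
      refine hcase _ ?_ ?_ ?_ ?_
      · simp [n01, n02]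
      · simp [n01.symm, n12]
      · simp [n02.symm, n12.symm]
      · intro j
        simp [h1 j, (m0 j).symm, (m1 j).symm, (m2 j).symm]
  have hPe0 : ∀ (z : K) (j : Fin (k + 3)), P.e z (Sum.inr j) = 0 := by
    intro z j
    rw [← polar_inl j (P.e z)]
    refine hcase (fun j => polar (plusForm (k + 3) F) (Pi.single (Sum.inl j) 1) (P.e z) = 0) ?_ ?_ ?_ ?_ j
    · exact P.polar_e' Fr.pe z
    · exact P.polar_e' Fr.pu' z
    · exact P.polar_e' Fr.pv z
    · intro i
      rw [← hPe]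
      exact P.polar_e_e _ _
  have hPf0 : ∀ (z : K) (j : Fin (k + 3)), P.f z (Sum.inl j) = 0 := by
    intro z j
    rw [← polar_inr j (P.f z)]
    refine hcase (fun j => polar (plusForm (k + 3) F) (Pi.single (Sum.inr j) 1) (P.f z) = 0) ?_ ?_ ?_ ?_ j
    · exact P.polar_f' Fr.pf z
    · exact P.polar_f' Fr.pu z
    · exact P.polar_f' Fr.pv' z
    · intro i
      rw [← hPf]
      exact P.polar_f_f _ _
  have h01 : (⟨0, by omega⟩ : Fin k) ≠ ⟨1, by omega⟩ := by
    intro h; simp [Fin.ext_iff] at h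
  refine Fr.pick hG (by rw [hK]; exact hk) (x1 := b ⟨0, by omega⟩) (x2 := b ⟨1, by omega⟩)
    (y1 := b.traceDual ⟨0, by omega⟩) (y2 := b.traceDual ⟨1, by omega⟩) ?_ ?_ ?_ ?_ ?_ ?_ x y hx
  · rw [b.trace_mul_traceDual, if_pos rfl]
  · rw [b.trace_mul_traceDual, if_neg h01]
  · rw [b.trace_mul_traceDual, if_neg h01.symm]
  · rw [b.trace_mul_traceDual, if_pos rfl]
  · intro c hc
    refine ⟨dil (k + 3) (Units.mk0 c hc), isSS_dilP (Units.mk0 c hc), dil_l _ _, dil_r _ _, dil_r _ _, dil_l _ _,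
      dil_l _ _, dil_r _ _, ?_, ?_⟩
    · intro z
      funext j
      rcases j with j | j
      · rfl
      · show P.e z (Sum.inr j) = c • P.e z (Sum.inr j)
        rw [hPe0, smul_zero]
    · intro z
      funext j
      rcases j with j | j
      · show c * P.f z (Sum.inl j) = P.f z (Sum.inl j)
        rw [hPf0, mul_zero]
      · rfl
  · intro σ
    refine ⟨Fi (k + 3) σ, isSS_cw_plus (k + 3) σ, Fi_single _ _, Fi_single _ _, Fi_single _ _, Fi_single _ _,
      Fi_single _ _, Fi_single _ _, ?_, ?_, ?_, ?_⟩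
    · rw [hPe]; exact Fi_single _ _
    · rw [hPe]; exact Fi_single _ _
    · rw [hPf]; exact Fi_single _ _
    · rw [hPf]; exact Fi_single _ _

universe u

/-- **C10**: `Cos2` for `POmega⁺_{2m}(q)`, `m ≥ 5`. -/
theorem cos2_plus {T : Type u} [Group T] (F : Type) [Field F] [Fintype F] (m : ℕ) (hm : 5 ≤ m)
    (h : Nonempty (T ≃* Cfsg.POmega F (Cfsg.quadFormPlus m F))) : Cos2 T := by
  obtain ⟨e⟩ := h
  obtain ⟨k, rfl⟩ : ∃ k, m = k + 3 := ⟨m - 3, by omega⟩
  have hG : Good (plusForm (k + 3) F) := good_plus (by omega)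
  rw [← coe_plusForm] at e
  exact Cfsg.Agent.H984.DG.cos2_congr (e.trans (pomegaEquiv hG)) (cos2_plusForm k (by omega))

/-- The row `plus`, given the rank 4 groups. -/
theorem cos2_plus_row (h4 : ∀ (T : Type u) [Group T] [Finite T] [IsSimpleGroup T] (F : Type) [Field F] [Fintype F],
      Nonempty (T ≃* Cfsg.POmega F (Cfsg.quadFormPlus 4 F)) → Cos2 T) (T : Type u) [Group T] [Finite T]
    [IsSimpleGroup T] (h : Cfsg.IsPOmegaPlus T) : Cos2 T := by
  obtain ⟨F, _, _, m, hm, e⟩ := h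
  rcases Nat.lt_or_ge 4 m with h5 | h5
  · exact cos2_plus F m h5 e
  · obtain rfl : m = 4 := by omega
    exact h4 T F e

end Cfsg.Agent.H989.DG
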