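import Cfsg.Agent.H989.DG.Semi

/-!
# Generators of a field extension (helper989, TEAM GEN, S4180)

`irr_of` : `κ` with `κ ^ (q - 1) = g ^ (q - 1)`, `g` a generator of `Kˣ`, `[K : F] ≥ 2`, generates `K` over the
prime field.
-/

set_option autoImplicit false
set_option linter.unusedSectionVars false

namespace Cfsg.Agent.H989.DG

section

variable {F K : Type*} [Field F] [Finite F] [Field K] [Finite K] [Algebra F K]

/-- the multipliers of an additive subgroup -/
def mlt (Y : AddSubgroup K) : Subfield K where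
  carrier := {r | ∀ y ∈ Y, r * y ∈ Y}
  mul_mem' := by
    intro a b ha hb y hy
    rw [mul_assoc]
    exact ha _ (hb _ hy)
  one_mem' := by
    intro y hy
    rwa [one_mul]
  add_mem' := by
    intro a b ha hb y hy
    rw [add_mul]
    exact Y.add_mem (ha _ hy) (hb _ hy)
  zero_mem' := by
    intro y _
    rw [zero_mul]
    exact Y.zero_mem
  neg_mem' := by
    intro a ha y hy
    rw [neg_mul]
    exact Y.neg_mem (ha _ hy)
  inv_mem' := by
    intro a ha y hy
    by_cases h0 : a = 0
    · subst h0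
      rw [inv_zero, zero_mul]
      exact Y.zero_mem
    have hpow : ∀ n : ℕ, ∀ y ∈ Y, a ^ n * y ∈ Y := by
      intro n
      induction n with
      | zero => intro y hy; rwa [pow_zero, one_mul]
      | succ n ih => intro y hy; rw [pow_succ, mul_assoc]; exact ih _ (ha _ hy)
    have _ := Fintype.ofFinite K
    have h1 : a ^ (Fintype.card K - 1) = 1 := FiniteField.pow_card_sub_one_eq_one a h0
    have h2 : 1 < Fintype.card K := Fintype.one_lt_card
    have h3 : a⁻¹ = a ^ (Fintype.card K - 2) := by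
      rw [inv_eq_of_mul_eq_one_right]
      rw [← pow_succ', show Fintype.card K - 2 + 1 = Fintype.card K - 1 by omega, h1]
    rw [h3]
    exact hpow _ _ hy

theorem mem_mlt {Y : AddSubgroup K} {r : K} : r ∈ mlt Y ↔ ∀ y ∈ Y, r * y ∈ Y := Iff.rfl

theorem sub_one_card {q Q r : ℕ} (hq : q ^ 2 ≤ Q) (hr : r ^ 2 ≤ Q) (hq0 : 1 < q) (hr0 : 1 < r)
    (h : Q - 1 ≤ (r - 1) * (q - 1)) : False := by
  obtain ⟨a, rfl⟩ : ∃ a, q = a + 1 := ⟨q - 1, by omega⟩
  obtain ⟨b, rfl⟩ : ∃ b, r = b + 1 := ⟨r - 1, by omega⟩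
  simp only [Nat.add_sub_cancel] at h
  have h1 : Q ≤ b * a + 1 := by omega
  nlinarith [Nat.mul_le_mul (le_refl a) (le_refl b), sq_nonneg ((a : ℤ) - b)]

/-- A big subfield is everything. -/
theorem subfield_eq_top (hk : 2 ≤ Module.finrank F K) {g : Kˣ} (hg : ∀ c : Kˣ, c ∈ Subgroup.zpowers g)
    (R : Subfield K) (h : ((g : K) ^ (Nat.card F - 1)) ∈ R) : R = ⊤ := by
  by_contra hne
  have hQF : Nat.card K = Nat.card F ^ Module.finrank F K := Module.natCard_eq_pow_finrank
  have hQR : Nat.card K = Nat.card R ^ Module.finrank R K := Module.natCard_eq_pow_finrank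
  have hq1 : 1 < Nat.card F := Finite.one_lt_card
  have hr1 : 1 < Nat.card R := Finite.one_lt_card
  have hfr : 2 ≤ Module.finrank R K := by
    by_contra hlt
    have h0 : 0 < Module.finrank R K := Module.finrank_pos
    have h1 : Module.finrank R K = 1 := by omega
    rw [h1, pow_one] at hQR
    apply hne
    have h2 : (R : Set K) = Set.univ := by
      refine Set.eq_of_subset_of_ncard_le (Set.subset_univ _) ?_
      rw [Set.ncard_univ, hQR]
      exact le_of_eq (Nat.card_coe_set_eq _)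
    exact SetLike.coe_injective (h2.trans Subfield.coe_top.symm)
  have hqQ : Nat.card F ^ 2 ≤ Nat.card K := by
    rw [hQF]
    exact Nat.pow_le_pow_right (by omega) hk
  have hrQ : Nat.card R ^ 2 ≤ Nat.card K := by
    rw [hQR]
    exact Nat.pow_le_pow_right (by omega) hfr
  refine sub_one_card hqQ hrQ hq1 hr1 ?_
  -- the units of `R`
  have h1 : (g ^ (Nat.card F - 1)) ^ (Nat.card R - 1) = 1 := by
    have _ := Fintype.ofFinite R
    apply Units.ext
    have h2 : (⟨(g : K) ^ (Nat.card F - 1), h⟩ : R) ≠ 0 := by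
      intro h3
      have h4 : (g : K) ^ (Nat.card F - 1) = 0 := congrArg Subtype.val h3
      exact pow_ne_zero _ g.ne_zero h4
    have h3 := FiniteField.pow_card_sub_one_eq_one _ h2
    have h4 := congrArg (Subtype.val : R → K) h3
    rw [← Nat.card_eq_fintype_card] at h4
    simpa using h4
  have h2 : orderOf g = Nat.card Kˣ := orderOf_eq_card_of_forall_mem_zpowers hg
  have h3 : orderOf g ∣ (Nat.card F - 1) * (Nat.card R - 1) := by
    rw [orderOf_dvd_iff_pow_eq_one, pow_mul]
    exact h1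
  rw [h2, Nat.card_units] at h3
  rw [mul_comm]
  exact Nat.le_of_dvd (Nat.mul_pos (by omega) (by omega)) h3

/-- `κ` generates `K` -/
theorem irr_of (hk : 2 ≤ Module.finrank F K) {g : Kˣ} (hg : ∀ c : Kˣ, c ∈ Subgroup.zpowers g) {κ : K}
    (h : κ ^ (Nat.card F - 1) = (g : K) ^ (Nat.card F - 1)) : Irr κ := by
  intro Y hY y hy hy0 z
  have h1 : κ ∈ mlt Y := hY
  have h2 : mlt Y = ⊤ := subfield_eq_top hk hg _ (by rw [← h]; exact pow_mem h1 _)
  have h3 : z * y⁻¹ ∈ mlt Y := by rw [h2]; trivial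
  have h4 := h3 y hy
  rwa [mul_assoc, inv_mul_cancel₀ hy0, mul_one] at h4

theorem algebraMap_pow_sub_one {b : F} (hb : b ≠ 0) : (algebraMap F K b) ^ (Nat.card F - 1) = 1 := by
  have _ := Fintype.ofFinite F
  rw [← map_pow, Nat.card_eq_fintype_card, FiniteField.pow_card_sub_one_eq_one b hb, map_one]

theorem irr_mul (hk : 2 ≤ Module.finrank F K) {g : Kˣ} (hg : ∀ c : Kˣ, c ∈ Subgroup.zpowers g) {b : F}
    (hb : b ≠ 0) : Irr (algebraMap F K b * (g : K)) :=
  irr_of hk hg (by rw [mul_pow, algebraMap_pow_sub_one hb, one_mul])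

theorem gen_inv {g : Kˣ} (hg : ∀ c : Kˣ, c ∈ Subgroup.zpowers g) : ∀ c : Kˣ, c ∈ Subgroup.zpowers g⁻¹ := by
  intro c
  rw [Subgroup.zpowers_inv]
  exact hg c

end

end Cfsg.Agent.H989.DG
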