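import Cfsg.Agent.H989.DG.Semi
import Cfsg.Agent.H891.DG.Nielsen
import Cfsg.Agent.LieRecognition.FieldSemilinear

/-!
# From semisimilitudes to `Cos2` (helper989, TEAM GEN, S4180)

* `HH M` : the isometries in a group `M` of semisimilitudes;
* `lift_of_gam`, `cos2_of_gam`.
-/

set_option autoImplicit false
set_option linter.unusedSectionVars false

namespace Cfsg.Agent.H989.DG

open QuadraticMap Cfsg.Agent.LieClassical.OrthCore Cfsg.Agent.LieClassical.OrthTrans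
  Cfsg.Agent.LieClassical.OrthSimple Cfsg.Agent.ClassicalGeometry.OrthAutBasic
  Cfsg.Agent.ClassicalGeometry.OrthSemi Cfsg.Agent.ClassicalGeometry.OrthAut1
  Cfsg.Agent.H887.SiegelMethod Cfsg.Agent.H137 Cfsg.Agent.H989.OutOrth.Basic Subgroup
  Cfsg.Agent.H440.TwoGen Cfsg.Agent.H891.Gen Cfsg.Agent.H891.DG

variable {F V : Type*} [Field F] [AddCommGroup V] [Module F V] {Q : QuadraticForm F V}

/-- the isometries in `M` -/
def HH (M : Subgroup (Gam Q)) : Subgroup (V ≃ₗ[F] V) := (M.comap (ofO Q)).map (O Q).subtype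

theorem mem_HH {M : Subgroup (Gam Q)} {g : V ≃ₗ[F] V} : g ∈ HH M ↔ ∃ hg : g ∈ O Q, ofO Q ⟨g, hg⟩ ∈ M := by
  constructor
  · rintro ⟨g, hg, rfl⟩
    exact ⟨g.2, hg⟩
  · rintro ⟨hg, h⟩
    exact ⟨⟨g, hg⟩, h, rfl⟩

theorem HH_le (M : Subgroup (Gam Q)) : HH M ≤ O Q := fun _ hg => (mem_HH.1 hg).1

theorem conjLin_mem_O {w : Gam Q} {g : V ≃ₗ[F] V} (hg : g ∈ O Q) : conjLin w g ∈ O Q := by
  obtain ⟨σ, c, hc⟩ := w.2
  intro v
  obtain ⟨v, rfl⟩ := w.1.surjective v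
  rw [conjLin_apply', hc.form, hc.form]
  congr 2
  exact hg v

theorem ofO_conjLin (w : Gam Q) {g : V ≃ₗ[F] V} (hg : g ∈ O Q) :
    ofO Q ⟨conjLin w g, conjLin_mem_O hg⟩ = w * ofO Q ⟨g, hg⟩ * w⁻¹ := rfl

theorem nm_HH {M : Subgroup (Gam Q)} {w : Gam Q} (hw : w ∈ M) : Nm (HH M) w := by
  intro g hg
  obtain ⟨hg, h⟩ := mem_HH.1 hg
  exact mem_HH.2 ⟨conjLin_mem_O hg, by
    rw [ofO_conjLin w hg]
    exact mul_mem (mul_mem hw h) (inv_mem hw)⟩

/-- **lifting** -/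
theorem lift_of_gam {x y x' y' : Gam Q} (hx : out Q x' = out Q x) (hy : out Q y' = out Q y)
    (h : E Q ≤ HH (closure {x', y'})) : Lift (MulAut.conj : P Q →* MulAut (P Q)).range (Psi Q x) (Psi Q y) := by
  have key : ∀ {a a' : Gam Q}, out Q a' = out Q a → (Psi Q a)⁻¹ * Psi Q a' ∈ (MulAut.conj : P Q →* MulAut (P Q)).range := by
    intro a a' h
    have h1 : (QuotientGroup.mk' (Cfsg.Inn (P Q))) (Psi Q a) = (QuotientGroup.mk' (Cfsg.Inn (P Q))) (Psi Q a') := h.symm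
    exact QuotientGroup.eq.1 h1
  refine ⟨_, key hx, _, key hy, ?_⟩
  rw [mul_inv_cancel_left, mul_inv_cancel_left, ← Set.image_pair, ← MonoidHom.map_closure]
  rintro _ ⟨p, rfl⟩
  obtain ⟨g, rfl⟩ := QuotientGroup.mk_surjective p
  obtain ⟨h1, h2⟩ := mem_HH.1 (h g.2)
  exact ⟨_, h2, Psi_ofO g⟩

/-- **`Cos2`** -/
theorem cos2_of_gam [Finite F] [Finite V] (hG : Good Q) (hs : Function.Surjective (Psi Q))
    (h : ∀ x y : Gam Q, sg hG x = 1 → ∃ x' y' : Gam Q, out Q x' = out Q x ∧ out Q y' = out Q y ∧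
      E Q ≤ HH (closure {x', y'})) : Cos2 (P Q) := by
  have hk : (Psi Q).ker ≤ (sg hG).ker := by
    intro M hM
    rw [ker_Psi hG] at hM
    obtain ⟨a, rfl⟩ := hM
    exact sg_scal hG a
  let φ : MulAut (P Q) →* RingAut F :=
    (QuotientGroup.lift (Psi Q).ker (sg hG) hk).comp
      (QuotientGroup.quotientKerEquivOfSurjective (Psi Q) hs).symm.toMonoidHom
  have hφ : ∀ M : Gam Q, φ (Psi Q M) = sg hG M := by
    intro M
    have h1 : (QuotientGroup.quotientKerEquivOfSurjective (Psi Q) hs).symm (Psi Q M) = (M : Gam Q ⧸ (Psi Q).ker) := by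
      rw [MulEquiv.symm_apply_eq]
      rfl
    show QuotientGroup.lift (Psi Q).ker (sg hG) hk ((QuotientGroup.quotientKerEquivOfSurjective (Psi Q) hs).symm (Psi Q M)) = _
    rw [h1]
    rfl
  have hfinE : Finite (V ≃ₗ[F] V) := Finite.of_injective (fun g => g.toEquiv)
    fun g h e => LinearEquiv.toEquiv_injective e
  have hfinP : Finite (P Q) := inferInstance
  have hfin : Finite (RingAut F) := Finite.of_injective (fun f : RingAut F => (f : F → F)) DFunLike.coe_injective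
  have hcyc : IsCyclic (RingAut F) := Cfsg.Agent.LieRecognition.FieldSemilinear.isCyclic_ringAut F
  refine Cfsg.Agent.H891.DG.Nielsen.cos2_of_ker φ fun x y hx => ?_
  obtain ⟨x, rfl⟩ := hs x
  obtain ⟨y, rfl⟩ := hs y
  rw [hφ] at hx
  obtain ⟨x', y', h1, h2, h3⟩ := h x y hx
  exact lift_of_gam h1 h2 h3

end Cfsg.Agent.H989.DG
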