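import Cfsg.Agent.H137.OrthTwo
import Cfsg.Agent.H989.DG.Irr
import Cfsg.Agent.H989.DG.Closure
import Cfsg.Agent.H989.DG.LiftGam

/-!
# Generation by two semisimilitudes (helper989, TEAM GEN, S4180)
-/

set_option autoImplicit false
set_option linter.unusedSectionVars false

namespace Cfsg.Agent.H989.DG

open QuadraticMap Cfsg.Agent.LieClassical.OrthCore Cfsg.Agent.LieClassical.OrthTrans
  Cfsg.Agent.LieClassical.OrthSimple Cfsg.Agent.ClassicalGeometry.OrthAutBasic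
  Cfsg.Agent.ClassicalGeometry.OrthSemi Cfsg.Agent.ClassicalGeometry.OrthAut1
  Cfsg.Agent.H887.SiegelMethod Cfsg.Agent.H137 Cfsg.Agent.H989.OutOrth.Basic Subgroup

variable {F V : Type*} [Field F] [AddCommGroup V] [Module F V] {Q : QuadraticForm F V}

/-- Siegel elements as semisimilitudes -/
noncomputable def tt (Q : QuadraticForm F V) (a b : V) : Gam Q := ofO Q ⟨T Q a b, T_mem_O a b⟩

theorem tt_mem {M : Subgroup (Gam Q)} {a b : V} : tt Q a b ∈ M ↔ T Q a b ∈ HH M := by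
  rw [mem_HH]
  exact ⟨fun h => ⟨T_mem_O a b, h⟩, fun ⟨_, h⟩ => h⟩

theorem tt_congr {a b a' b' : V} (h : T Q a b = T Q a' b') : tt Q a b = tt Q a' b' := by
  unfold tt
  congr 1
  exact Subtype.ext h

theorem tt_conj (w : Gam Q) {σ : F ≃+* F} {c : F} (h : IsSS Q σ c w.1) {a b : V} (ha : Q a = 0)
    (hab : polar Q a b = 0) : w * tt Q a b * w⁻¹ = tt Q (w.1 a) (c⁻¹ • w.1 b) := by
  unfold tt
  rw [← ofO_conjLin w (T_mem_O a b)]
  congr 1
  exact Subtype.ext (conjLin_T w h ha hab)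

theorem tt_mul {a b b' : V} (ha : Q a = 0) (hab : polar Q a b = 0) (hab' : polar Q a b' = 0) :
    tt Q a b * tt Q a b' = tt Q a (b + b') := by
  unfold tt
  rw [← map_mul]
  congr 1
  exact Subtype.ext (T_mul ha hab hab')

theorem tt_inv {a b : V} (ha : Q a = 0) (hab : polar Q a b = 0) : (tt Q a b)⁻¹ = tt Q a (-b) := by
  unfold tt
  rw [← map_inv]
  congr 1
  exact Subtype.ext (T_inv ha hab)

theorem tt_pow {a b : V} (ha : Q a = 0) (hab : polar Q a b = 0) : (tt Q a b) ^ ringChar F = 1 := by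
  unfold tt
  rw [← map_pow]
  have : (⟨T Q a b, T_mem_O a b⟩ : O Q) ^ ringChar F = 1 := by
    apply Subtype.ext
    show T Q a b ^ ringChar F = 1
    rw [T_pow ha hab, ← Nat.cast_smul_eq_nsmul F, CharP.cast_eq_zero, zero_smul, T_zero_right]
  rw [this, map_one]

section

variable {K : Type*} [Field K] [Algebra F K] {P : SPair Q K} {e0 f0 u u' v v' : V}

/-- **the first generation theorem** -/
theorem Frame.core1 (Fr : Frame Q P e0 f0 u u' v v') (hG : Good Q) {x1 x2 y1 y2 : K} (hx1 : x1 ≠ 0)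
    (hy1 : y1 ≠ 0) {z y : Gam Q} {c : F} (hz : IsSS Q (RingEquiv.refl F) c z.1) {a b d : F}
    (z1 : z.1 e0 = a • e0) (z2 : z.1 u = b • u) (hab : a * b = c) (z3 : z.1 u' = d • u') {κ κ' : K}
    (z4 : ∀ k, z.1 (P.e k) = P.e (κ * k)) (z5 : ∀ k, z.1 (P.f k) = P.f (κ' * k))
    (hI : Irr (algebraMap F K (d * c⁻¹) * κ)) (hI' : Irr (algebraMap F K (d * c⁻¹) * κ')) {m : ℕ}
    (hm : m.Coprime (ringChar F)) (zm : z ^ m = 1)
    (L1 : Ln y e0 (P.f y1)) (L2 : Ln y (P.f y1) f0) (L3 : Ln y f0 (P.e x1)) (L4 : Ln y (P.e x1) e0)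
    (L5 : Ln y u u') (L6 : Ln y u' u)
    (L7 : (Ln y (P.e x2) v ∧ Ln y (P.f y2) v') ∨ (Ln y (P.e x2) v' ∧ Ln y (P.f y2) v)) :
    E Q ≤ HH (closure {z * tt Q e0 u, y}) := by
  have qe : Q e0 = 0 := Fr.hu.hx.left
  have qu' : Q u' = 0 := Fr.hu.hy.right
  have hc := hz.ne
  have hcomm : Commute z (tt Q e0 u) := by
    have h1 := tt_conj z hz qe Fr.hu.xy
    rw [z1, z2] at h1
    have h2 : T Q (a • e0) (c⁻¹ • b • u) = T Q e0 u := by
      rw [T_smul_left a qe (by rw [polar_smul_right, polar_smul_right, Fr.hu.xy, smul_zero, smul_zero]),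
        smul_smul, smul_smul]
      have : a * c⁻¹ * b = 1 := by
        rw [mul_right_comm, hab, mul_inv_cancel₀ hc]
      rw [this, one_smul]
    rw [tt_congr h2, mul_inv_eq_iff_eq_mul] at h1
    exact h1
  obtain ⟨hzM, hτ⟩ := mem_of_mul_coprime (H := closure {z * tt Q e0 u, y}) hcomm hm zm (tt_pow qe Fr.hu.xy)
    (subset_closure (Or.inl rfl))
  have hyM : y ∈ closure {z * tt Q e0 u, y} := subset_closure (Or.inr rfl)
  exact Fr.closure1 hG hx1 hy1 (nm_HH hyM) L1 L2 L3 L4 L5 L6 L7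
    (famE_of (nm_HH hzM) hz z4 qu' Fr.pu' z3 hI) (famF_of (nm_HH hzM) hz z5 qu' Fr.pu' z3 hI')
    (Sg.of_mem qe Fr.hu.xy (tt_mem.1 hτ))

theorem rf_congr {a b : V} (h : a = b) (ha : Q a ≠ 0) (hb : Q b ≠ 0) : rf a ha = rf b hb := by
  subst h
  rfl

/-- **the second generation theorem** (characteristic 2, graph automorphism) -/
theorem Frame.core2 (Fr : Frame Q P e0 f0 u u' v v') (hG : Good Q) (h2 : ringChar F = 2) {x1 y1 : K} (hx1 : x1 ≠ 0)
    (hy1 : y1 ≠ 0) {z y : Gam Q} (hz : IsSS Q (RingEquiv.refl F) 1 z.1)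
    (z1 : z.1 e0 = e0) (z1' : z.1 f0 = f0) (z2 : z.1 u = u) (z3 : z.1 u' = u') (z6 : z.1 v = v) (z6' : z.1 v' = v')
    {κ κ' : K} (z4 : ∀ k, z.1 (P.e k) = P.e (κ * k)) (z5 : ∀ k, z.1 (P.f k) = P.f (κ' * k))
    (hI : Irr κ) (hI' : Irr κ') (hκ : κ ≠ 1) {m : ℕ} (hm : m.Coprime 2) (zm : z ^ m = 1)
    (hvv : Q (v + v') ≠ 0)
    (L1 : Ln y e0 (P.e x1)) (L2 : Ln y (P.e x1) v) (L3 : Ln y v e0)
    (L1' : Ln y f0 (P.f y1)) (L2' : Ln y (P.f y1) v') (L3' : Ln y v' f0)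
    (L5 : Ln y u u') (L6 : Ln y u' u) :
    E Q ≤ HH (closure {z * (rf (v + v') hvv * tt Q e0 u), y}) := by
  have qe : Q e0 = 0 := Fr.hu.hx.left
  have qf : Q f0 = 0 := Fr.hu.hx.right
  have qu : Q u = 0 := Fr.hu.hy.left
  have qu' : Q u' = 0 := Fr.hu.hy.right
  have qv : Q v = 0 := Fr.hv.hy.left
  have qv' : Q v' = 0 := Fr.hv.hy.right
  set M := closure {z * (rf (v + v') hvv * tt Q e0 u), y} with hM
  have hyM : y ∈ M := subset_closure (Or.inr rfl)
  -- the involution commutes with the Siegel element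
  have hρ : ∀ x, polar Q v x = 0 → polar Q v' x = 0 → (rf (v + v') hvv).1 x = x := by
    intro x h h'
    rw [rf_apply, refl_apply, polar_add_left, h, h', add_zero, mul_zero, zero_smul, sub_zero]
  have hve : polar Q v e0 = 0 := by rw [polar_comm]; exact Fr.hv.xy
  have hve' : polar Q v' e0 = 0 := by rw [polar_comm]; exact Fr.hv.xy'
  have hvu : polar Q v u = 0 := by rw [polar_comm]; exact Fr.huv.xy
  have hvu' : polar Q v' u = 0 := by rw [polar_comm]; exact Fr.huv.xy'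
  have hcomm : Commute (rf (v + v') hvv) (tt Q e0 u) := by
    have h1 := tt_conj (rf (v + v') hvv) (isSS_ofO _) qe Fr.hu.xy
    rw [hρ _ hve hve', hρ _ hvu hvu', inv_one, one_smul, mul_inv_eq_iff_eq_mul] at h1
    exact h1
  have hτ2 : tt Q e0 u * tt Q e0 u = 1 := by
    have h1 := tt_pow (Q := Q) qe Fr.hu.xy
    rwa [h2, pow_two] at h1
  have hρτ : (rf (v + v') hvv * tt Q e0 u) ^ 2 = 1 := by
    rw [hcomm.mul_pow, pow_two, pow_two, rf_mul_self, hτ2, one_mul]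
  have hzρ : Commute z (rf (v + v') hvv) := by
    have hv1 : Q (z.1 (v + v')) ≠ 0 := Q_ne z hvv
    have h1 := conj_rf z hvv hv1
    have h3 : z.1 (v + v') = v + v' := by rw [hz.add, z6, z6']
    rw [rf_congr h3 hv1 hvv, mul_inv_eq_iff_eq_mul] at h1
    exact h1
  have hzτ : Commute z (tt Q e0 u) := by
    have h1 := tt_conj z hz qe Fr.hu.xy
    rw [z1, z2, inv_one, one_smul, mul_inv_eq_iff_eq_mul] at h1
    exact h1
  obtain ⟨hzM, hρτM⟩ := mem_of_mul_coprime (H := M) (hzρ.mul_right hzτ) hm zm hρτ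
    (subset_closure (Or.inl rfl))
  -- separation
  obtain ⟨α, hα, hv0⟩ := L3
  obtain ⟨β, hβ, hv0'⟩ := L3'
  obtain ⟨a, ha, he1⟩ := L1
  obtain ⟨b, hb, hu1⟩ := L5
  obtain ⟨σ, c, hy⟩ := y.2
  have hyv : y.1 (v + v') = α • e0 + β • f0 := by rw [hy.add, hv0, hv0']
  have hv1 : Q (y.1 (v + v')) ≠ 0 := Q_ne y hvv
  have hv2 : Q (α • e0 + β • f0) ≠ 0 := by rwa [hyv] at hv1
  have hC : y * rf (v + v') hvv * y⁻¹ = rf (α • e0 + β • f0) hv2 := by
    rw [conj_rf y hvv hv1]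
    exact rf_congr hyv _ _
  have hTt : y * tt Q e0 u * y⁻¹ = tt Q u' (P.e (algebraMap F K (-(c⁻¹ * b) * a) * x1)) := by
    rw [tt_conj y hy qe Fr.hu.xy, he1, hu1]
    apply tt_congr
    have h3 : polar Q (a • P.e x1) (c⁻¹ • b • u') = 0 := by
      rw [polar_smul_left, polar_smul_right, polar_smul_right, P.polar_e Fr.pu']; simp
    have h4 : polar Q u' (-(a • P.e x1)) = 0 := by
      rw [polar_neg_right, polar_smul_right, P.polar_e' Fr.pu']; simp
    rw [T_swap (by rw [QuadraticMap.map_smul, P.Qe, smul_zero])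
      (by rw [QuadraticMap.map_smul, QuadraticMap.map_smul, qu', smul_zero, smul_zero]) h3, smul_smul,
      T_smul_left _ qu' h4, smul_neg, smul_smul, ← neg_smul, ← neg_mul, ← Algebra.smul_def, map_smul]
  set k1 : K := algebraMap F K (-(c⁻¹ * b) * a) * x1 with hk1
  have hk1' : k1 ≠ 0 := by
    refine mul_ne_zero ?_ hx1
    rw [Ne, map_eq_zero]
    exact mul_ne_zero (neg_ne_zero.2 (mul_ne_zero (inv_ne_zero hy.ne) hb)) ha
  have hB : rf (α • e0 + β • f0) hv2 * tt Q u' (P.e k1) ∈ M := by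
    have h3 := mul_mem (mul_mem hyM hρτM) (inv_mem hyM)
    have e : y * (rf (v + v') hvv * tt Q e0 u) * y⁻¹ = (y * rf (v + v') hvv * y⁻¹) * (y * tt Q e0 u * y⁻¹) := by
      group
    rwa [e, hC, hTt] at h3
  have hzC : z * rf (α • e0 + β • f0) hv2 * z⁻¹ = rf (α • e0 + β • f0) hv2 := by
    rw [conj_rf z hv2 (Q_ne z hv2)]
    apply rf_congr
    rw [hz.add, hz.smul, hz.smul, z1, z1']
    rfl
  have hzT : z * tt Q u' (P.e k1) * z⁻¹ = tt Q u' (P.e (κ * k1)) := by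
    rw [tt_conj z hz qu' (P.polar_e' Fr.pu' _), z3, z4, inv_one, one_smul]
  have hD : tt Q u' (P.e ((κ - 1) * k1)) ∈ M := by
    have h3 := mul_mem (inv_mem hB) (mul_mem (mul_mem hzM hB) (inv_mem hzM))
    have e : (rf (α • e0 + β • f0) hv2 * tt Q u' (P.e k1))⁻¹ *
        (z * (rf (α • e0 + β • f0) hv2 * tt Q u' (P.e k1)) * z⁻¹) =
        (tt Q u' (P.e k1))⁻¹ * (rf (α • e0 + β • f0) hv2)⁻¹ * ((z * rf (α • e0 + β • f0) hv2 * z⁻¹) *
          (z * tt Q u' (P.e k1) * z⁻¹)) := by group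
    rw [e, hzC, hzT, mul_assoc, inv_mul_cancel_left, tt_inv qu' (P.polar_e' Fr.pu' _),
      tt_mul qu' (by rw [polar_neg_right, P.polar_e' Fr.pu', neg_zero]) (P.polar_e' Fr.pu' _), ← map_neg,
      ← map_add] at h3
    have e2 : -k1 + κ * k1 = (κ - 1) * k1 := by ring
    rwa [e2] at h3
  have one_e : algebraMap F K (1 * 1⁻¹) * κ = κ := by rw [inv_one, mul_one, map_one, one_mul]
  have one_f : algebraMap F K (1 * 1⁻¹) * κ' = κ' := by rw [inv_one, mul_one, map_one, one_mul]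
  have hE : ∀ {x : V}, Q x = 0 → P.Perp x → z.1 x = x → FamE Q (HH M) P x := by
    intro x hx hPx hzx
    exact famE_of (nm_HH hzM) hz z4 hx hPx (by rw [hzx, one_smul]) (by rwa [one_e])
  have hF : ∀ {x : V}, Q x = 0 → P.Perp x → z.1 x = x → FamF Q (HH M) P x := by
    intro x hx hPx hzx
    exact famF_of (nm_HH hzM) hz z5 hx hPx (by rw [hzx, one_smul]) (by rwa [one_f])
  have hfull : ∀ k, P.e k ∈ Ts Q (HH M) u' :=
    hE qu' Fr.pu' z3 _ (mul_ne_zero (sub_ne_zero.2 hκ) hk1')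
      (Sg.of_mem qu' (P.polar_e' Fr.pu' _) (tt_mem.1 hD))
  have hTM : tt Q u' (P.e k1) ∈ M := tt_mem.2 (Ts_mem (hfull k1))
  have hCM : rf (α • e0 + β • f0) hv2 ∈ M := by
    have h3 := mul_mem hB (inv_mem hTM)
    rwa [mul_inv_cancel_right] at h3
  have hρM : rf (v + v') hvv ∈ M := by
    rw [← hC] at hCM
    have h3 := mul_mem (mul_mem (inv_mem hyM) hCM) hyM
    have e : y⁻¹ * (y * rf (v + v') hvv * y⁻¹) * y = rf (v + v') hvv := by group
    rwa [e] at h3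
  have hτM : tt Q e0 u ∈ M := by
    have h3 := mul_mem (inv_mem hρM) hρτM
    rwa [inv_mul_cancel_left] at h3
  refine Fr.closure2 hG hx1 hy1 (nm_HH hyM) (nm_HH hCM) ⟨a, ha, he1⟩ L2 ⟨α, hα, hv0⟩ L1' L2' ⟨β, hβ, hv0'⟩
    ⟨b, hb, hu1⟩ L6 ?_ ?_ (hE qu' Fr.pu' z3) (hF qu' Fr.pu' z3) (hE qu Fr.pu z2) (hF qu Fr.pu z2)
    (Sg.of_mem qe Fr.hu.xy (tt_mem.1 hτM))
  · refine ⟨-(β / α), neg_ne_zero.2 (div_ne_zero hβ hα), ?_⟩
    have hQ : Q (α • e0 + β • f0) = α * β := by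
      rw [Q_add, QuadraticMap.map_smul, QuadraticMap.map_smul, qe, qf, polar_smul_left, polar_smul_right,
        Fr.hu.hx.pair]
      simp
    rw [rf_apply, refl_apply, hQ, polar_add_left, polar_smul_left, polar_smul_left, Fr.hu.hx.pair',
      Fr.hu.hx.polar_left]
    have e : (α * β)⁻¹ * (α • (0 : F) + β • (1 : F)) = α⁻¹ := by
      rw [smul_zero, zero_add, smul_eq_mul, mul_one]
      field_simp
    rw [e, smul_add, smul_smul, smul_smul, inv_mul_cancel₀ hα, one_smul, neg_smul, div_eq_inv_mul]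
    abel
  · refine ⟨1, one_ne_zero, ?_⟩
    rw [rf_apply, refl_apply, polar_add_left, polar_smul_left, polar_smul_left, Fr.hu.xy, Fr.hu.x'y]
    simp

end

end Cfsg.Agent.H989.DG
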