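import Cfsg.Agent.H989.DG.Lines

/-!
# The choice of the generators (helper989, TEAM GEN, S4180)
-/

set_option autoImplicit false
set_option linter.unusedSectionVars false

namespace Cfsg.Agent.H989.DG

open QuadraticMap Cfsg.Agent.LieClassical.OrthCore Cfsg.Agent.LieClassical.OrthTrans
  Cfsg.Agent.LieClassical.OrthSimple Cfsg.Agent.ClassicalGeometry.OrthAutBasic
  Cfsg.Agent.ClassicalGeometry.OrthSemi Cfsg.Agent.ClassicalGeometry.OrthAut1
  Cfsg.Agent.H887.SiegelMethod Cfsg.Agent.H137 Cfsg.Agent.H989.OutOrth.Basic Subgroup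

variable {F V : Type*} [Field F] [AddCommGroup V] [Module F V] {Q : QuadraticForm F V}

/-- The diagonal similitude. -/
structure Dil {K : Type*} [Field K] [Algebra F K] (P : SPair Q K) (e0 f0 u u' v v' : V) (D : Gam Q)
    (c : F) : Prop where
  ss : IsSS Q (RingEquiv.refl F) c D.1
  e : D.1 e0 = c • e0
  f : D.1 f0 = f0
  u : D.1 u = u
  u' : D.1 u' = c • u'
  v : D.1 v = c • v
  v' : D.1 v' = v'
  E : ∀ k, D.1 (P.e k) = c • P.e k
  F : ∀ k, D.1 (P.f k) = P.f k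

/-- The field automorphism. -/
structure Fro {K : Type*} [Field K] [Algebra F K] (P : SPair Q K) (e0 f0 u u' v v' : V) (x1 x2 y1 y2 : K)
    (Φ : Gam Q) (σ : F ≃+* F) : Prop where
  ss : IsSS Q σ 1 Φ.1
  e : Φ.1 e0 = e0
  f : Φ.1 f0 = f0
  u : Φ.1 u = u
  u' : Φ.1 u' = u'
  v : Φ.1 v = v
  v' : Φ.1 v' = v'
  x1 : Φ.1 (P.e x1) = P.e x1
  x2 : Φ.1 (P.e x2) = P.e x2
  y1 : Φ.1 (P.f y1) = P.f y1
  y2 : Φ.1 (P.f y2) = P.f y2

theorem smul_pow_apply {M : Gam Q} {c : F} (h : IsSS Q (RingEquiv.refl F) c M.1) {x : V} {a : F}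
    (hx : M.1 x = a • x) (n : ℕ) : (M ^ n).1 x = a ^ n • x := by
  induction n with
  | zero => rw [pow_zero, pow_zero, one_smul]; rfl
  | succ n ih =>
    rw [pow_succ', pow_succ]
    show M.1 ((M ^ n).1 x) = _
    rw [ih, h.smul, hx, smul_smul]
    rfl

theorem isSS_pow {M : Gam Q} {c : F} (h : IsSS Q (RingEquiv.refl F) c M.1) (n : ℕ) :
    ∃ d, IsSS Q (RingEquiv.refl F) d (M ^ n).1 := by
  induction n with
  | zero => exact ⟨1, one_ne_zero, fun _ _ => rfl, fun _ _ => rfl, fun _ => by rw [one_mul]; rfl⟩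
  | succ n ih =>
    obtain ⟨d, hd⟩ := ih
    refine ⟨d * c, ?_⟩
    rw [pow_succ]
    exact isSS_mul hd h

section

variable {K : Type*} [Field K] [Algebra F K] {P : SPair Q K} {e0 f0 u u' v v' : V}

theorem pow_apply_e {M : Gam Q} {κ : K} (h : ∀ k, M.1 (P.e k) = P.e (κ * k)) (n : ℕ) (k : K) :
    (M ^ n).1 (P.e k) = P.e (κ ^ n * k) := by
  induction n generalizing k with
  | zero => rw [pow_zero, pow_zero, one_mul]; rfl
  | succ n ih =>
    rw [pow_succ', pow_succ']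
    show M.1 ((M ^ n).1 (P.e k)) = _
    rw [ih, h, mul_assoc]

theorem pow_apply_f {M : Gam Q} {κ : K} (h : ∀ k, M.1 (P.f k) = P.f (κ * k)) (n : ℕ) (k : K) :
    (M ^ n).1 (P.f k) = P.f (κ ^ n * k) := by
  induction n generalizing k with
  | zero => rw [pow_zero, pow_zero, one_mul]; rfl
  | succ n ih =>
    rw [pow_succ', pow_succ']
    show M.1 ((M ^ n).1 (P.f k)) = _
    rw [ih, h, mul_assoc]

theorem pow_card_units {k : K} (hk : k ≠ 0) : k ^ Nat.card Kˣ = 1 := by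
  have h := pow_card_eq_one' (x := Units.mk0 k hk)
  have h1 := congrArg Units.val h
  rw [Units.val_pow_eq_pow_val, Units.val_mk0, Units.val_one] at h1
  exact h1

theorem pow_card_units' {a : F} (ha : a ≠ 0) : a ^ Nat.card Kˣ = 1 := by
  have h : algebraMap F K a ≠ 0 := by rwa [Ne, map_eq_zero]
  have h1 := pow_card_units h
  rw [← map_pow, ← map_one (algebraMap F K)] at h1
  exact (algebraMap F K).injective h1

/-- The order of a diagonal element. -/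
theorem Frame.pow_eq_one (Fr : Frame Q P e0 f0 u u' v v') {z : Gam Q} {c : F}
    (hz : IsSS Q (RingEquiv.refl F) c z.1) {a1 a2 a3 a4 a5 a6 : F}
    (z1 : z.1 e0 = a1 • e0) (z2 : z.1 f0 = a2 • f0) (z3 : z.1 u = a3 • u) (z4 : z.1 u' = a4 • u')
    (z5 : z.1 v = a5 • v) (z6 : z.1 v' = a6 • v')
    (h1 : a1 ≠ 0) (h2 : a2 ≠ 0) (h3 : a3 ≠ 0) (h4 : a4 ≠ 0) (h5 : a5 ≠ 0) (h6 : a6 ≠ 0) {κ κ' : K}
    (hκ : κ ≠ 0) (hκ' : κ' ≠ 0) (z7 : ∀ k, z.1 (P.e k) = P.e (κ * k)) (z8 : ∀ k, z.1 (P.f k) = P.f (κ' * k)) :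
    z ^ Nat.card Kˣ = 1 := by
  obtain ⟨d, hd⟩ := isSS_pow hz (Nat.card Kˣ)
  have key : ∀ {x : V} {a : F}, z.1 x = a • x → a ≠ 0 → (z ^ Nat.card Kˣ).1 x = x := by
    intro x a hx ha
    rw [smul_pow_apply hz hx, pow_card_units' (K := K) ha, one_smul]
  refine Fr.eq_one hd (key z1 h1) (key z2 h2) (key z3 h3) (key z4 h4) (key z5 h5) (key z6 h6) ?_ ?_
  · intro k
    rw [pow_apply_e z7, pow_card_units hκ, one_mul]
  · intro k
    rw [pow_apply_f z8, pow_card_units hκ', one_mul]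

/-- The classes of the similitudes. -/
theorem Frame.exists_class [FiniteDimensional F V] (Fr : Frame Q P e0 f0 u u' v v') (hG : Good Q)
    (hD : ∀ c : F, c ≠ 0 → ∃ D : Gam Q, Dil P e0 f0 u u' v v' D c) {M : Gam Q} (hM : sg hG M = 1) :
    ∃ (c : F) (D t : Gam Q), Dil P e0 f0 u u' v v' D c ∧ t ∈ TT Q v v' ∧ out Q (D * t) = out Q M := by
  obtain ⟨σ, c, hc⟩ := M.2
  have h1 := sg_eq hG hc
  rw [hM] at h1
  have h2 : σ = RingEquiv.refl F := h1.symm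
  subst h2
  obtain ⟨D, hDc⟩ := hD c hc.ne
  have h3 : IsSS Q (RingEquiv.refl F) 1 (D⁻¹ * M).1 :=
    isSS_congr (isSS_mul (isSS_inv hDc.ss) hc) (inv_mul_cancel₀ hc.ne)
  obtain ⟨g, hg⟩ := exists_ofO h3
  have hR : out Q (ofO Q g) ∈ (TT Q v v').map (out Q) := by
    refine out_ofO_mem hG (fun w hw => ?_) g
    have hyp : Hyp Q v v' := Fr.hv.hy
    have hn : Q (v + Q w • v') = Q w := by
      rw [Q_add, hyp.left, QuadraticMap.map_smul, hyp.right, polar_smul_right, hyp.pair]; simp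
    have hn0 : Q (v + Q w • v') ≠ 0 := by rwa [hn]
    rw [out_rf_of_eq hG hw hn0 hn.symm]
    refine ⟨_, ⟨isSS_ofO _, fun x h h' => ?_⟩, rfl⟩
    show (rf (v + Q w • v') hn0).1 x = x
    rw [rf_apply, refl_apply, polar_add_left, polar_smul_left, h, h', smul_zero, add_zero, mul_zero, zero_smul,
      sub_zero]
  obtain ⟨t, ht, hto⟩ := hR
  refine ⟨c, D, t, hDc, ht, ?_⟩
  rw [map_mul, hto, hg, ← map_mul, mul_inv_cancel_left]

/-- **the case of odd characteristic, or `x` inner** -/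
theorem Frame.pick1 [Finite F] [Finite K] [FiniteDimensional F V] (Fr : Frame Q P e0 f0 u u' v v') (hG : Good Q)
    (hk : 2 ≤ Module.finrank F K) {x1 x2 y1 y2 : K} (t11 : Algebra.trace F K (x1 * y1) = 1)
    (t12 : Algebra.trace F K (x1 * y2) = 0) (t21 : Algebra.trace F K (x2 * y1) = 0)
    (t22 : Algebra.trace F K (x2 * y2) = 1)
    (hD : ∀ c : F, c ≠ 0 → ∃ D : Gam Q, Dil P e0 f0 u u' v v' D c)
    (hΦ : ∀ σ : F ≃+* F, ∃ Φ : Gam Q, Fro P e0 f0 u u' v v' x1 x2 y1 y2 Φ σ) (x y : Gam Q) (hx : sg hG x = 1)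
    (h2 : ringChar F = 2 → out Q x = 1) :
    ∃ x' y' : Gam Q, out Q x' = out Q x ∧ out Q y' = out Q y ∧ E Q ≤ HH (closure {x', y'}) := by
  obtain ⟨g, hg⟩ := IsCyclic.exists_generator (α := Kˣ)
  have x10 : x1 ≠ 0 := by
    rintro rfl
    rw [zero_mul, map_zero] at t11
    exact zero_ne_one t11
  have y10 : y1 ≠ 0 := by
    rintro rfl
    rw [mul_zero, map_zero] at t11
    exact zero_ne_one t11
  -- the second generator
  obtain ⟨Φ, hΦ⟩ := hΦ (sg hG y)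
  have hsgΦ : sg hG Φ = sg hG y := sg_eq hG hΦ.ss
  obtain ⟨c, D, t, hDc, ht, hout⟩ := Fr.exists_class hG hD (M := y * Φ⁻¹)
    (by rw [map_mul, map_inv, hsgΦ, mul_inv_cancel])
  obtain ⟨tl, tf⟩ : ((Ln t v v ∧ Ln t v' v') ∨ (Ln t v v' ∧ Ln t v' v)) ∧
      ∀ x, polar Q v x = 0 → polar Q v' x = 0 → Ln t x x :=
    ⟨Fr.tt_lines t11 ht, fun x h h' => Ln.of_eq (ht.2 x h h')⟩
  have he0 := Fr.hu.hx
  have hu0 := Fr.hu.hy
  have hv0 := Fr.hv.hy
  set R : Gam Q := rf (e0 + f0) (Q_hyp_ne he0) * rf (u + u') (Q_hyp_ne hu0) with hR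
  have hRout : out Q R = 1 := by
    rw [hR, map_mul, out_rf_of_eq hG (Q_hyp_ne he0) (Q_hyp_ne hu0) (by rw [Q_hyp he0, Q_hyp hu0]), ← map_mul,
      rf_mul_self, map_one]
  set W1 : Gam Q := NN Q e0 f0 (P.e x1) (P.f y1) with hW1
  set W2 : Gam Q := NN Q v v' (P.e x2) (P.f y2) with hW2
  have H1 : Hyp Q (P.e x1) (P.f y1) := ⟨P.Qe _, P.Qf _, by rw [P.polar_e_f, t11]⟩
  have H2 : Hyp Q (P.e x2) (P.f y2) := ⟨P.Qe _, P.Qf _, by rw [P.polar_e_f, t22]⟩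
  have H01 : Hyp2 Q e0 f0 (P.e x1) (P.f y1) :=
    ⟨he0, H1, P.polar_e' Fr.pe _, P.polar_f' Fr.pe _, P.polar_e' Fr.pf _, P.polar_f' Fr.pf _⟩
  have Hv2 : Hyp2 Q v v' (P.e x2) (P.f y2) :=
    ⟨hv0, H2, P.polar_e' Fr.pv _, P.polar_f' Fr.pv _, P.polar_e' Fr.pv' _, P.polar_f' Fr.pv' _⟩
  obtain ⟨s1, s2, s3, s4⟩ := Fr.hu.swap
  obtain ⟨w1, w2, w3, w4⟩ := Fr.hv.swap
  obtain ⟨r1, r2, r3, r4⟩ := Fr.huv.swap
  have p12 : polar Q (P.e x1) (P.f y2) = 0 := by rw [P.polar_e_f, t12]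
  have p21 : polar Q (P.e x2) (P.f y1) = 0 := by rw [P.polar_e_f, t21]
  have p12' : polar Q (P.f y2) (P.e x1) = 0 := by rw [polar_comm]; exact p12
  have p21' : polar Q (P.f y1) (P.e x2) = 0 := by rw [polar_comm]; exact p21
  -- lines
  have fD : ∀ {a : V} {b : F}, b ≠ 0 → D.1 a = b • a → Ln D a a := fun hb h => ⟨_, hb, h⟩
  have c0 : c ≠ 0 := hDc.ss.ne
  have De := fD c0 hDc.e
  have Df : Ln D f0 f0 := Ln.of_eq hDc.f
  have Du : Ln D u u := Ln.of_eq hDc.u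
  have Du' := fD c0 hDc.u'
  have Dv := fD c0 hDc.v
  have Dv' : Ln D v' v' := Ln.of_eq hDc.v'
  have DE : ∀ k, Ln D (P.e k) (P.e k) := fun k => fD c0 (hDc.E k)
  have DF : ∀ k, Ln D (P.f k) (P.f k) := fun k => Ln.of_eq (hDc.F k)
  set y' : Gam Q := D * t * W1 * R * W2 * Φ with hy'
  have hyout : out Q y' = out Q y := by
    rw [hy', map_mul, map_mul, map_mul, map_mul, hout, hRout, hW1, hW2, out_NN, out_NN, mul_one, mul_one,
      mul_one, ← map_mul, inv_mul_cancel_right]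
  have L1 : Ln y' e0 (P.f y1) := by
    refine Ln.mul ?_ (Ln.of_eq hΦ.e)
    refine Ln.mul ?_ (NN_fix Hv2 w1 w2 (P.polar_e Fr.pe _) (P.polar_f Fr.pe _))
    refine Ln.mul ?_ ((rf_l he0 _).mul (rf_fix _ s1 s2))
    refine Ln.mul ?_ (NN_x' H01)
    exact (DF _).mul (tf _ (P.polar_f' Fr.pv _) (P.polar_f' Fr.pv' _))
  have L2 : Ln y' (P.f y1) f0 := by
    refine Ln.mul ?_ (Ln.of_eq hΦ.y1)
    refine Ln.mul ?_ (NN_fix Hv2 (P.polar_f' Fr.pv _) (P.polar_f' Fr.pv' _) p21 (P.polar_f_f _ _))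
    refine Ln.mul ?_ ((rf_fix _ (P.polar_f' Fr.pe _) (P.polar_f' Fr.pf _)).mul
      (rf_fix _ (P.polar_f' Fr.pu _) (P.polar_f' Fr.pu' _)))
    refine Ln.mul ?_ (NN_y' H01)
    exact Df.mul (tf _ w3 w4)
  have L3 : Ln y' f0 (P.e x1) := by
    refine Ln.mul ?_ (Ln.of_eq hΦ.f)
    refine Ln.mul ?_ (NN_fix Hv2 w3 w4 (P.polar_e Fr.pf _) (P.polar_f Fr.pf _))
    refine Ln.mul ?_ ((rf_r he0 _).mul (rf_fix _ s3 s4))
    refine Ln.mul ?_ (NN_x H01)
    exact (DE _).mul (tf _ (P.polar_e' Fr.pv _) (P.polar_e' Fr.pv' _))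
  have L4 : Ln y' (P.e x1) e0 := by
    refine Ln.mul ?_ (Ln.of_eq hΦ.x1)
    refine Ln.mul ?_ (NN_fix Hv2 (P.polar_e' Fr.pv _) (P.polar_e' Fr.pv' _) (P.polar_e_e _ _) p12')
    refine Ln.mul ?_ ((rf_fix _ (P.polar_e' Fr.pe _) (P.polar_e' Fr.pf _)).mul
      (rf_fix _ (P.polar_e' Fr.pu _) (P.polar_e' Fr.pu' _)))
    refine Ln.mul ?_ (NN_y H01)
    exact De.mul (tf _ w1 w2)
  have L5 : Ln y' u u' := by
    refine Ln.mul ?_ (Ln.of_eq hΦ.u)
    refine Ln.mul ?_ (NN_fix Hv2 r1 r2 (P.polar_e Fr.pu _) (P.polar_f Fr.pu _))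
    refine Ln.mul ?_ ((rf_fix _ Fr.hu.xy' Fr.hu.x'y').mul (rf_l hu0 _))
    refine Ln.mul ?_ (NN_fix H01 Fr.hu.xy' Fr.hu.x'y' (P.polar_e Fr.pu' _) (P.polar_f Fr.pu' _))
    exact Du'.mul (tf _ r3 r4)
  have L6 : Ln y' u' u := by
    refine Ln.mul ?_ (Ln.of_eq hΦ.u')
    refine Ln.mul ?_ (NN_fix Hv2 r3 r4 (P.polar_e Fr.pu' _) (P.polar_f Fr.pu' _))
    refine Ln.mul ?_ ((rf_fix _ Fr.hu.xy Fr.hu.x'y).mul (rf_r hu0 _))
    refine Ln.mul ?_ (NN_fix H01 Fr.hu.xy Fr.hu.x'y (P.polar_e Fr.pu _) (P.polar_f Fr.pu _))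
    exact Du.mul (tf _ r1 r2)
  have M1 : Ln (W1 * R * W2 * Φ) (P.e x2) v := by
    refine Ln.mul ?_ (Ln.of_eq hΦ.x2)
    refine Ln.mul ?_ (NN_y Hv2)
    refine Ln.mul ?_ ((rf_fix _ Fr.hv.xy Fr.hv.x'y).mul (rf_fix _ Fr.huv.xy Fr.huv.x'y))
    exact NN_fix H01 Fr.hv.xy Fr.hv.x'y (P.polar_e Fr.pv _) (P.polar_f Fr.pv _)
  have M2 : Ln (W1 * R * W2 * Φ) (P.f y2) v' := by
    refine Ln.mul ?_ (Ln.of_eq hΦ.y2)
    refine Ln.mul ?_ (NN_y' Hv2)
    refine Ln.mul ?_ ((rf_fix _ Fr.hv.xy' Fr.hv.x'y').mul (rf_fix _ Fr.huv.xy' Fr.huv.x'y'))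
    exact NN_fix H01 Fr.hv.xy' Fr.hv.x'y' (P.polar_e Fr.pv' _) (P.polar_f Fr.pv' _)
  have ey' : y' = D * (t * (W1 * R * W2 * Φ)) := by rw [hy']; group
  have L7 : (Ln y' (P.e x2) v ∧ Ln y' (P.f y2) v') ∨ (Ln y' (P.e x2) v' ∧ Ln y' (P.f y2) v) := by
    rw [ey']
    rcases tl with ⟨h, h'⟩ | ⟨h, h'⟩
    · left
      exact ⟨Dv.mul (h.mul M1), Dv'.mul (h'.mul M2)⟩
    · right
      exact ⟨Dv'.mul (h.mul M1), Dv.mul (h'.mul M2)⟩
  -- the Singer element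
  set S : Gam Q := ofO Q ⟨P.S g, P.S_mem_O g⟩ with hS
  have hSss : IsSS Q (RingEquiv.refl F) 1 S.1 := isSS_ofO _
  have hSp : ∀ {a : V}, P.Perp a → S.1 a = a := fun h => P.S_perp g h
  have hSe : ∀ k, S.1 (P.e k) = P.e (g * k) := P.S_e g
  have hSf : ∀ k, S.1 (P.f k) = P.f ((g⁻¹ : Kˣ) * k) := P.S_f g
  have hIrr : ∀ {b : F}, b ≠ 0 → Irr (algebraMap F K b * (g : K)) := fun hb => irr_mul hk hg hb
  have hIrr' : ∀ {b : F}, b ≠ 0 → Irr (algebraMap F K b * ((g⁻¹ : Kˣ) : K)) := fun hb => irr_mul hk (gen_inv hg) hb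
  by_cases hp : ringChar F = 2
  · -- `x` inner
    refine ⟨S * tt Q e0 u, y', ?_, hyout, ?_⟩
    · rw [h2 hp, map_mul, out_tt, mul_one]
      have hKc : ringChar K = 2 := by rw [← Algebra.ringChar_eq F K]; exact hp
      obtain ⟨s, hs⟩ := FiniteField.isSquare_of_char_two hKc (g : K)
      have hs0 : s ≠ 0 := by
        rintro rfl
        rw [mul_zero] at hs
        exact g.ne_zero hs
      have hg2 : g = Units.mk0 s hs0 * Units.mk0 s hs0 := Units.ext (by simpa using hs)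
      have h3 : P.S g ∈ E Q := by
        rw [hg2, P.S_mul]
        exact sq_mem_E hG (P.S_mem_O _)
      exact out_ofO_of_mem h3
    · refine Fr.core1 hG x10 y10 hSss (a := 1) (b := 1) (d := 1) ?_ ?_ (mul_one _) ?_ hSe hSf ?_ ?_
        (m := Nat.card Kˣ) (coprime_card_units F K) ?_ L1 L2 L3 L4 L5 L6 L7
      · rw [one_smul]; exact hSp Fr.pe
      · rw [one_smul]; exact hSp Fr.pu
      · rw [one_smul]; exact hSp Fr.pu'
      · exact hIrr (mul_ne_zero one_ne_zero (inv_ne_zero one_ne_zero))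
      · exact hIrr' (mul_ne_zero one_ne_zero (inv_ne_zero one_ne_zero))
      · have h3 : (⟨P.S g, P.S_mem_O g⟩ : O Q) ^ Nat.card Kˣ = 1 := by
          apply Subtype.ext
          show P.S g ^ Nat.card Kˣ = 1
          rw [← P.S_pow, pow_card_eq_one', P.S_one]
        rw [hS, ← map_pow, h3, map_one]
  · -- odd characteristic
    obtain ⟨c, D, t, hDc, ht, hout⟩ := Fr.exists_class hG hD (M := S⁻¹ * x)
      (by rw [map_mul, map_inv, hx, sg_ofO, inv_one, one_mul])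
    have c0 : c ≠ 0 := hDc.ss.ne
    have tf : ∀ x, polar Q v x = 0 → polar Q v' x = 0 → t.1 x = x := ht.2
    have tl := Fr.tt_lines t11 ht
    set z : Gam Q := S * D * t with hz
    have hzapp : ∀ a, z.1 a = S.1 (D.1 (t.1 a)) := fun a => rfl
    have hSs : ∀ (a : F) (b : V), S.1 (a • b) = a • S.1 b := hSss.smul
    have hzss : IsSS Q (RingEquiv.refl F) c z.1 :=
      isSS_congr (isSS_mul (isSS_mul hSss hDc.ss) ht.1) (by rw [one_mul, mul_one])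
    have ze : z.1 e0 = c • e0 := by rw [hzapp, tf _ w1 w2, hDc.e, hSs, hSp Fr.pe]
    have zf : z.1 f0 = (1 : F) • f0 := by rw [hzapp, tf _ w3 w4, hDc.f, hSp Fr.pf, one_smul]
    have zu : z.1 u = (1 : F) • u := by rw [hzapp, tf _ r1 r2, hDc.u, hSp Fr.pu, one_smul]
    have zu' : z.1 u' = c • u' := by rw [hzapp, tf _ r3 r4, hDc.u', hSs, hSp Fr.pu']
    have zE : ∀ k, z.1 (P.e k) = P.e (algebraMap F K c * (g : K) * k) := by
      intro k
      rw [hzapp, tf _ (P.polar_e' Fr.pv _) (P.polar_e' Fr.pv' _), hDc.E, hSs, hSe, ← map_smul, Algebra.smul_def,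
        mul_assoc]
    have zF : ∀ k, z.1 (P.f k) = P.f (((g⁻¹ : Kˣ) : K) * k) := by
      intro k
      rw [hzapp, tf _ (P.polar_f' Fr.pv _) (P.polar_f' Fr.pv' _), hDc.F, hSf]
    have cK : algebraMap F K c ≠ 0 := by rwa [Ne, map_eq_zero]
    -- the square
    obtain ⟨a, ha, hzv, hzv'⟩ : ∃ a : F, a ≠ 0 ∧ (z * z).1 v = a • v ∧ ∃ b : F, b ≠ 0 ∧ (z * z).1 v' = b • v' := by
      have Dv : Ln D v v := ⟨c, c0, hDc.v⟩
      have Dv' : Ln D v' v' := Ln.of_eq hDc.v'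
      have Sv : Ln S v v := Ln.of_eq (hSp Fr.pv)
      have Sv' : Ln S v' v' := Ln.of_eq (hSp Fr.pv')
      have h3 : (Ln (z * z) v v ∧ Ln (z * z) v' v') := by
        rcases tl with ⟨h, h'⟩ | ⟨h, h'⟩
        · have k1 : Ln z v v := (Sv.mul Dv).mul h
          have k2 : Ln z v' v' := (Sv'.mul Dv').mul h'
          exact ⟨k1.mul k1, k2.mul k2⟩
        · have k1 : Ln z v v' := (Sv'.mul Dv').mul h
          have k2 : Ln z v' v := (Sv.mul Dv).mul h'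
          exact ⟨k2.mul k1, k1.mul k2⟩
      obtain ⟨⟨a, ha, hv⟩, ⟨b, hb, hv'⟩⟩ := h3
      exact ⟨a, ha, hv, b, hb, hv'⟩
    obtain ⟨b, hb, hzv'⟩ := hzv'
    have zz : ∀ {w : V} {a : F}, z.1 w = a • w → (z * z).1 w = (a * a) • w := by
      intro w a h
      show z.1 (z.1 w) = _
      rw [h, hzss.smul, h, smul_smul]
      rfl
    have hzz : (z * z) ^ Nat.card Kˣ = 1 := by
      refine Fr.pow_eq_one (isSS_mul hzss hzss) (zz ze) (zz zf) (zz zu) (zz zu') hzv hzv' (mul_ne_zero c0 c0)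
        (mul_ne_zero one_ne_zero one_ne_zero) (mul_ne_zero one_ne_zero one_ne_zero) (mul_ne_zero c0 c0) ha hb
        (κ := (algebraMap F K c * (g : K)) * (algebraMap F K c * (g : K)))
        (κ' := ((g⁻¹ : Kˣ) : K) * ((g⁻¹ : Kˣ) : K)) ?_ ?_ ?_ ?_
      · exact mul_ne_zero (mul_ne_zero cK g.ne_zero) (mul_ne_zero cK g.ne_zero)
      · exact mul_ne_zero (Units.ne_zero _) (Units.ne_zero _)
      · intro k
        show z.1 (z.1 (P.e k)) = _
        rw [zE, zE, mul_assoc (algebraMap F K c * (g : K))]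
      · intro k
        show z.1 (z.1 (P.f k)) = _
        rw [zF, zF, mul_assoc]
    refine ⟨z * tt Q e0 u, y', ?_, hyout, ?_⟩
    · rw [map_mul, out_tt, mul_one, hz, mul_assoc, map_mul, hout, ← map_mul, mul_inv_cancel_left]
    · refine Fr.core1 hG x10 y10 hzss ze zu (mul_one _) zu' zE zF ?_ ?_ (m := 2 * Nat.card Kˣ) ?_ ?_
        L1 L2 L3 L4 L5 L6 L7
      · rw [← mul_assoc, ← map_mul]
        exact hIrr (mul_ne_zero (mul_ne_zero c0 (inv_ne_zero c0)) c0)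
      · exact hIrr' (mul_ne_zero c0 (inv_ne_zero c0))
      · refine Nat.Coprime.mul_left ?_ (coprime_card_units F K)
        have hpr : (ringChar F).Prime := CharP.char_is_prime F _
        exact (Nat.coprime_primes Nat.prime_two hpr).2 (Ne.symm hp)
      · rw [pow_mul, pow_two, hzz]

/-- **`x` of the class of a reflection, characteristic 2** -/
theorem Frame.pick2 [Finite F] [Finite K] [FiniteDimensional F V] (Fr : Frame Q P e0 f0 u u' v v') (hG : Good Q)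
    (hk : 2 ≤ Module.finrank F K) {x1 x2 y1 y2 : K} (t11 : Algebra.trace F K (x1 * y1) = 1)
    (hΦ : ∀ σ : F ≃+* F, ∃ Φ : Gam Q, Fro P e0 f0 u u' v v' x1 x2 y1 y2 Φ σ) (x y : Gam Q)
    (h2 : ringChar F = 2) (hx : out Q x = out Q (rf (v + v') (Q_hyp_ne Fr.hv.hy))) :
    ∃ x' y' : Gam Q, out Q x' = out Q x ∧ out Q y' = out Q y ∧ E Q ≤ HH (closure {x', y'}) := by
  obtain ⟨g, hg⟩ := IsCyclic.exists_generator (α := Kˣ)
  have x10 : x1 ≠ 0 := by
    rintro rfl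
    rw [zero_mul, map_zero] at t11
    exact zero_ne_one t11
  have y10 : y1 ≠ 0 := by
    rintro rfl
    rw [mul_zero, map_zero] at t11
    exact zero_ne_one t11
  have he0 := Fr.hu.hx
  have hu0 := Fr.hu.hy
  have hv0 := Fr.hv.hy
  obtain ⟨Φ, hΦ⟩ := hΦ (sg hG y)
  have hsgΦ : sg hG Φ = sg hG y := sg_eq hG hΦ.ss
  have H1 : Hyp Q (P.e x1) (P.f y1) := ⟨P.Qe _, P.Qf _, by rw [P.polar_e_f, t11]⟩
  have H01 : Hyp2 Q e0 f0 (P.e x1) (P.f y1) :=
    ⟨he0, H1, P.polar_e' Fr.pe _, P.polar_f' Fr.pe _, P.polar_e' Fr.pf _, P.polar_f' Fr.pf _⟩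
  obtain ⟨s1, s2, s3, s4⟩ := Fr.hu.swap
  obtain ⟨w1, w2, w3, w4⟩ := Fr.hv.swap
  obtain ⟨r1, r2, r3, r4⟩ := Fr.huv.swap
  have Hv0 : Hyp2 Q v v' e0 f0 := ⟨hv0, he0, w1, w3, w2, w4⟩
  set W1 : Gam Q := NN Q e0 f0 (P.e x1) (P.f y1) with hW1
  set W2 : Gam Q := NN Q v v' e0 f0 with hW2
  set y0 : Gam Q := rf (u + u') (Q_hyp_ne hu0) * W2 * W1 * Φ with hy0
  -- classes
  have hall : ∀ (w : V) (hw : Q w ≠ 0), out Q (rf w hw) = out Q (rf (v + v') (Q_hyp_ne hv0)) := by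
    intro w hw
    obtain ⟨s, hs⟩ := FiniteField.isSquare_of_char_two h2 (Q w)
    exact (out_rf_of_square hG (Q_hyp_ne hv0) hw (s := s) (by rw [hs, Q_hyp hv0, mul_one])).symm
  have hone : IsSS Q (RingEquiv.refl F) 1 (1 : Gam Q).1 :=
    ⟨one_ne_zero, fun _ _ => rfl, fun _ _ => rfl, fun _ => by rw [one_mul]; rfl⟩
  have hyc : out Q (y * Φ⁻¹) = 1 ∨ out Q (y * Φ⁻¹) = out Q (rf (v + v') (Q_hyp_ne hv0)) := by
    have h3 : out Q (y * Φ⁻¹) ∈ D hG := by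
      rw [out_mem_D, map_mul, map_inv, hsgΦ, mul_inv_cancel]
    rcases D_cases hG (Q_hyp_ne hv0) hall (δ0 := 1) (c0 := 1) hone
      (fun c _ => Or.inl (FiniteField.isSquare_of_char_two h2 c)) h3 with h | h | h | h
    · exact Or.inl h
    · exact Or.inr h
    · rw [map_one] at h
      exact Or.inl h
    · rw [map_one, one_mul] at h
      exact Or.inr h
  have hy0out : out Q y0 = out Q (rf (v + v') (Q_hyp_ne hv0)) * out Q Φ := by
    rw [hy0, map_mul, map_mul, map_mul, hW1, hW2, out_NN, out_NN, mul_one, mul_one, hall]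
  -- lines
  have p1 : ∀ {a : V}, polar Q a e0 = 0 → polar Q e0 a = 0 := fun h => by rw [polar_comm]; exact h
  have L1 : Ln y0 e0 (P.e x1) := by
    refine Ln.mul ?_ (Ln.of_eq hΦ.e)
    refine Ln.mul ?_ (NN_x H01)
    refine Ln.mul ?_ (NN_fix Hv0 (P.polar_e' Fr.pv _) (P.polar_e' Fr.pv' _) (P.polar_e' Fr.pe _)
      (P.polar_e' Fr.pf _))
    exact rf_fix _ (P.polar_e' Fr.pu _) (P.polar_e' Fr.pu' _)
  have L2 : Ln y0 (P.e x1) v := by
    refine Ln.mul ?_ (Ln.of_eq hΦ.x1)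
    refine Ln.mul ?_ (NN_y H01)
    refine Ln.mul ?_ (NN_y Hv0)
    exact rf_fix _ Fr.huv.xy Fr.huv.x'y
  have L3 : Ln y0 v e0 := by
    refine Ln.mul ?_ (Ln.of_eq hΦ.v)
    refine Ln.mul ?_ (NN_fix H01 Fr.hv.xy Fr.hv.x'y (P.polar_e Fr.pv _) (P.polar_f Fr.pv _))
    refine Ln.mul ?_ (NN_x Hv0)
    exact rf_fix _ s1 s2
  have L1' : Ln y0 f0 (P.f y1) := by
    refine Ln.mul ?_ (Ln.of_eq hΦ.f)
    refine Ln.mul ?_ (NN_x' H01)
    refine Ln.mul ?_ (NN_fix Hv0 (P.polar_f' Fr.pv _) (P.polar_f' Fr.pv' _) (P.polar_f' Fr.pe _)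
      (P.polar_f' Fr.pf _))
    exact rf_fix _ (P.polar_f' Fr.pu _) (P.polar_f' Fr.pu' _)
  have L2' : Ln y0 (P.f y1) v' := by
    refine Ln.mul ?_ (Ln.of_eq hΦ.y1)
    refine Ln.mul ?_ (NN_y' H01)
    refine Ln.mul ?_ (NN_y' Hv0)
    exact rf_fix _ Fr.huv.xy' Fr.huv.x'y'
  have L3' : Ln y0 v' f0 := by
    refine Ln.mul ?_ (Ln.of_eq hΦ.v')
    refine Ln.mul ?_ (NN_fix H01 Fr.hv.xy' Fr.hv.x'y' (P.polar_e Fr.pv' _) (P.polar_f Fr.pv' _))
    refine Ln.mul ?_ (NN_x' Hv0)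
    exact rf_fix _ s3 s4
  have L5 : Ln y0 u u' := by
    refine Ln.mul ?_ (Ln.of_eq hΦ.u)
    refine Ln.mul ?_ (NN_fix H01 Fr.hu.xy Fr.hu.x'y (P.polar_e Fr.pu _) (P.polar_f Fr.pu _))
    refine Ln.mul ?_ (NN_fix Hv0 r1 r2 Fr.hu.xy Fr.hu.x'y)
    exact rf_l hu0 _
  have L6 : Ln y0 u' u := by
    refine Ln.mul ?_ (Ln.of_eq hΦ.u')
    refine Ln.mul ?_ (NN_fix H01 Fr.hu.xy' Fr.hu.x'y' (P.polar_e Fr.pu' _) (P.polar_f Fr.pu' _))
    refine Ln.mul ?_ (NN_fix Hv0 r3 r4 Fr.hu.xy' Fr.hu.x'y')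
    exact rf_r hu0 _
  -- the Singer element
  set S : Gam Q := ofO Q ⟨P.S g, P.S_mem_O g⟩ with hS
  have hSss : IsSS Q (RingEquiv.refl F) 1 S.1 := isSS_ofO _
  have hSp : ∀ {a : V}, P.Perp a → S.1 a = a := fun h => P.S_perp g h
  have hSe : ∀ k, S.1 (P.e k) = P.e (g * k) := P.S_e g
  have hSf : ∀ k, S.1 (P.f k) = P.f ((g⁻¹ : Kˣ) * k) := P.S_f g
  have hIrr : Irr (g : K) := by
    have h3 := irr_mul hk hg (b := (1 : F)) one_ne_zero
    rwa [map_one, one_mul] at h3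
  have hIrr' : Irr (((g⁻¹ : Kˣ)) : K) := by
    have h3 := irr_mul hk (gen_inv hg) (b := (1 : F)) one_ne_zero
    rwa [map_one, one_mul] at h3
  have hg1 : (g : K) ≠ 1 := by
    intro h3
    have h4 : g = 1 := Units.ext h3
    have h5 : Nat.card Kˣ = 1 := by
      rw [← orderOf_eq_card_of_forall_mem_zpowers hg, h4, orderOf_one]
    rw [Nat.card_units] at h5
    have h6 : Nat.card K = Nat.card F ^ Module.finrank F K := Module.natCard_eq_pow_finrank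
    have h7 : 1 < Nat.card F := Finite.one_lt_card
    have h8 : 2 ^ 2 ≤ Nat.card F ^ Module.finrank F K :=
      (Nat.pow_le_pow_left h7 2).trans (Nat.pow_le_pow_right (by omega) hk)
    omega
  have hSN : S ^ Nat.card Kˣ = 1 := by
    have h3 : (⟨P.S g, P.S_mem_O g⟩ : O Q) ^ Nat.card Kˣ = 1 := by
      apply Subtype.ext
      show P.S g ^ Nat.card Kˣ = 1
      rw [← P.S_pow, pow_card_eq_one', P.S_one]
    rw [hS, ← map_pow, h3, map_one]
  have hcop : (Nat.card Kˣ).Coprime 2 := by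
    have h3 := coprime_card_units F K
    rwa [h2] at h3
  have hSE : out Q S = 1 := by
    have hKc : ringChar K = 2 := by rw [← Algebra.ringChar_eq F K]; exact h2
    obtain ⟨s, hs⟩ := FiniteField.isSquare_of_char_two hKc (g : K)
    have hs0 : s ≠ 0 := by
      rintro rfl
      rw [mul_zero] at hs
      exact g.ne_zero hs
    have hg2 : g = Units.mk0 s hs0 * Units.mk0 s hs0 := Units.ext (by simpa using hs)
    have h3 : P.S g ∈ E Q := by
      rw [hg2, P.S_mul]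
      exact sq_mem_E hG (P.S_mem_O _)
    exact out_ofO_of_mem h3
  have hcore := Fr.core2 hG h2 x10 y10 hSss (hSp Fr.pe) (hSp Fr.pf) (hSp Fr.pu) (hSp Fr.pu') (hSp Fr.pv)
    (hSp Fr.pv') hSe hSf hIrr hIrr' hg1 hcop hSN (Q_hyp_ne hv0) L1 L2 L3 L1' L2' L3' L5 L6
  set x' : Gam Q := S * (rf (v + v') (Q_hyp_ne hv0) * tt Q e0 u) with hx'
  have hx'out : out Q x' = out Q (rf (v + v') (Q_hyp_ne hv0)) := by
    rw [hx', map_mul, map_mul, hSE, out_tt, mul_one, one_mul]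
  have hρρ : out Q (rf (v + v') (Q_hyp_ne hv0)) * out Q (rf (v + v') (Q_hyp_ne hv0)) = 1 := by
    rw [← map_mul, rf_mul_self, map_one]
  rcases hyc with h | h
  · -- `y` proper
    refine ⟨x', x' * y0, hx'out.trans hx.symm, ?_, ?_⟩
    · rw [map_mul, hx'out, hy0out, ← mul_assoc, hρρ, one_mul]
      rw [map_mul, map_inv, mul_inv_eq_one] at h
      exact h.symm
    · refine hcore.trans (Subgroup.map_mono (Subgroup.comap_mono ?_))
      rw [closure_le]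
      rintro a (ha | ha)
      · rw [ha]
        exact subset_closure (Or.inl rfl)
      · rw [Set.mem_singleton_iff] at ha
        rw [ha]
        have h3 : x' ∈ closure ({x', x' * y0} : Set (Gam Q)) := subset_closure (Or.inl rfl)
        have h4 : x' * y0 ∈ closure ({x', x' * y0} : Set (Gam Q)) := subset_closure (Or.inr rfl)
        have h5 := mul_mem (inv_mem h3) h4
        rw [inv_mul_cancel_left] at h5
        exact h5
  · refine ⟨x', y0, hx'out.trans hx.symm, ?_, hcore⟩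
    rw [hy0out, ← h, ← map_mul, inv_mul_cancel_right]

/-- **the choice** -/
theorem Frame.pick [Finite F] [Finite K] [FiniteDimensional F V] (Fr : Frame Q P e0 f0 u u' v v') (hG : Good Q)
    (hk : 2 ≤ Module.finrank F K) {x1 x2 y1 y2 : K} (t11 : Algebra.trace F K (x1 * y1) = 1)
    (t12 : Algebra.trace F K (x1 * y2) = 0) (t21 : Algebra.trace F K (x2 * y1) = 0)
    (t22 : Algebra.trace F K (x2 * y2) = 1)
    (hD : ∀ c : F, c ≠ 0 → ∃ D : Gam Q, Dil P e0 f0 u u' v v' D c)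
    (hΦ : ∀ σ : F ≃+* F, ∃ Φ : Gam Q, Fro P e0 f0 u u' v v' x1 x2 y1 y2 Φ σ) (x y : Gam Q)
    (hx : sg hG x = 1) :
    ∃ x' y' : Gam Q, out Q x' = out Q x ∧ out Q y' = out Q y ∧ E Q ≤ HH (closure {x', y'}) := by
  by_cases h2 : ringChar F = 2
  · have hv0 := Fr.hv.hy
    have hall : ∀ (w : V) (hw : Q w ≠ 0), out Q (rf w hw) = out Q (rf (v + v') (Q_hyp_ne hv0)) := by
      intro w hw
      obtain ⟨s, hs⟩ := FiniteField.isSquare_of_char_two h2 (Q w)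
      exact (out_rf_of_square hG (Q_hyp_ne hv0) hw (s := s) (by rw [hs, Q_hyp hv0, mul_one])).symm
    have hone : IsSS Q (RingEquiv.refl F) 1 (1 : Gam Q).1 :=
      ⟨one_ne_zero, fun _ _ => rfl, fun _ _ => rfl, fun _ => by rw [one_mul]; rfl⟩
    have hxc : out Q x = 1 ∨ out Q x = out Q (rf (v + v') (Q_hyp_ne hv0)) := by
      rcases D_cases hG (Q_hyp_ne hv0) hall (δ0 := 1) (c0 := 1) hone
        (fun c _ => Or.inl (FiniteField.isSquare_of_char_two h2 c)) (out_mem_D.2 hx) with h | h | h | h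
      · exact Or.inl h
      · exact Or.inr h
      · rw [map_one] at h
        exact Or.inl h
      · rw [map_one, one_mul] at h
        exact Or.inr h
    rcases hxc with h | h
    · exact Fr.pick1 hG hk t11 t12 t21 t22 hD hΦ x y hx fun _ => h
    · exact Fr.pick2 hG hk t11 hΦ x y h2 h
  · exact Fr.pick1 hG hk t11 t12 t21 t22 hD hΦ x y hx fun h => absurd h h2

end

end Cfsg.Agent.H989.DG
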